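import Cfsg.Agent.Lib.ExtraThirtyTwo.Eight.Alt.Fuse
import Cfsg.Agent.Lib.Invol.ZStarFinal

/-!
# The centralizer of a double transposition fixes a four group
-/

set_option autoImplicit false

noncomputable section

namespace CfsgLib.ExtraThirtyTwo.Eight.Alt

open Equiv Equiv.Perm Subgroup Cfsg

variable {G : Type*} [Group G] [Finite G] {Φ : A8G →* G} (H : Hyp Φ)
include H

theorem Hyp.basic : im Φ pa * im Φ pa = 1 ∧ im Φ pa ≠ 1 ∧ im Φ pa * im Φ pa1 = im Φ pa2 ∧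
    im Φ pa * im Φ pa2 = im Φ pa1 ∧ im Φ pa1 * im Φ pa1 = 1 ∧ im Φ pa1 ≠ 1 ∧ im Φ pa1 ≠ im Φ pa ∧
    im Φ pa2 ≠ im Φ pa1 ∧ im Φ pa1 ∈ DA Φ ∧ im Φ pa ∈ DA Φ := by
  have e0 := std_even.1
  have e1 := std_even.2.1
  have e2 := std_even.2.2.1
  refine ⟨?_, fun h => ?_, ?_, ?_, ?_, fun h => ?_, fun h => ?_, fun h => ?_,
    (H.mem_DA_range.2 ⟨_, swap_pair.2.2.2.2.2.2.2.2.2.1, rfl⟩).1,
    (H.mem_DA_range.2 ⟨_, ca_misc.2.2.2.2.2.2.2, rfl⟩).1⟩
  · rw [← im_mul Φ e0 e0, show pa * pa = 1 by decide +kernel, im_one]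
  · exact absurd (H.im_inj e0 (map_one _) (h.trans (im_one Φ).symm)) (by decide +kernel)
  · rw [← im_mul Φ e0 e1, swap_pair.2.2.1]
  · rw [← im_mul Φ e0 e2, swap_pair.2.2.2.1]
  · rw [← im_mul Φ e1 e1, show pa1 * pa1 = 1 by decide +kernel, im_one]
  · exact absurd (H.im_inj e1 (map_one _) (h.trans (im_one Φ).symm)) (by decide +kernel)
  · exact absurd (H.im_inj e1 e0 h) (by decide +kernel)
  · exact absurd (H.im_inj e2 e1 h) (by decide +kernel)

omit [Finite G] in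
theorem Hyp.conj_two {g : G} (hg : g ∈ DA Φ)
    (h : g * im Φ pa1 * g⁻¹ = im Φ pa1 ∨ g * im Φ pa1 * g⁻¹ = im Φ pa2) :
    (g * im Φ pa2 * g⁻¹ = im Φ pa1 ∨ g * im Φ pa2 * g⁻¹ = im Φ pa2) ∧
    (g⁻¹ * im Φ pa1 * g = im Φ pa1 ∨ g⁻¹ * im Φ pa1 * g = im Φ pa2) := by
  have hga : g * im Φ pa * g⁻¹ = im Φ pa :=
    mul_inv_eq_iff_eq_mul.2 (Subgroup.mem_centralizer_singleton_iff.1 hg)
  have e12 : im Φ pa * im Φ pa1 = im Φ pa2 := by rw [← im_mul Φ std_even.1 std_even.2.1, swap_pair.2.2.1]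
  have e21 : im Φ pa * im Φ pa2 = im Φ pa1 := by rw [← im_mul Φ std_even.1 std_even.2.2.1, swap_pair.2.2.2.1]
  have h2 : g * im Φ pa2 * g⁻¹ = im Φ pa * (g * im Φ pa1 * g⁻¹) := by
    rw [← e12, show g * (im Φ pa * im Φ pa1) * g⁻¹ = g * im Φ pa * g⁻¹ * (g * im Φ pa1 * g⁻¹) by group, hga]
  rcases h with h | h
  · exact ⟨Or.inr (by rw [h2, h, e12]), Or.inl (by
      calc g⁻¹ * im Φ pa1 * g = g⁻¹ * (g * im Φ pa1 * g⁻¹) * g := by rw [h]
        _ = im Φ pa1 := by group)⟩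
  · refine ⟨Or.inl (by rw [h2, h, e21]), Or.inr ?_⟩
    rw [← (show g * im Φ pa2 * g⁻¹ = im Φ pa1 by rw [h2, h, e21])]; group

/-- A conjugate commuting modulo the involution stays in the four group. -/
theorem Hyp.comm_stays {g : G} (hg : g ∈ DA Φ)
    (h : (g * im Φ pa1 * g⁻¹) * im Φ pa1 * (g * im Φ pa1 * g⁻¹)⁻¹ = im Φ pa1 ∨
      (g * im Φ pa1 * g⁻¹) * im Φ pa1 * (g * im Φ pa1 * g⁻¹)⁻¹ = im Φ pa2) :
    g * im Φ pa1 * g⁻¹ = im Φ pa1 ∨ g * im Φ pa1 * g⁻¹ = im Φ pa2 := by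
  classical
  haveI : Fact (Nat.Prime 2) := ⟨Nat.prime_two⟩
  obtain ⟨ha2, -, -, -, h12, h1ne, -, -, h1D, -⟩ := H.basic
  let N : Subgroup G :=
    { carrier := {k | k ∈ DA Φ ∧ (k * im Φ pa1 * k⁻¹ = im Φ pa1 ∨ k * im Φ pa1 * k⁻¹ = im Φ pa2)}
      mul_mem' := by
        rintro p q ⟨hp, hp1⟩ ⟨hq, hq1⟩
        refine ⟨mul_mem hp hq, ?_⟩
        rw [show p * q * im Φ pa1 * (p * q)⁻¹ = p * (q * im Φ pa1 * q⁻¹) * p⁻¹ by group]
        rcases hq1 with e | e <;> rw [e]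
        exacts [hp1, (H.conj_two hp hp1).1]
      one_mem' := ⟨one_mem _, Or.inl (by group)⟩
      inv_mem' := by
        rintro p ⟨hp, hp1⟩
        refine ⟨inv_mem hp, ?_⟩
        rw [inv_inv]
        exact (H.conj_two hp hp1).2 }
  set R := DA Φ ⊓ Subgroup.centralizer ({im Φ pv} : Set G) ⊓ Φ.range
  have hc : Nat.card R = 2 ^ 5 := by rw [H.card_range_cent std_even.2.2.2.1, syl_card]; norm_num
  have hRN : R ≤ N := fun r hr => by
    obtain ⟨⟨hrD, -⟩, hrr⟩ := Subgroup.mem_inf.1 hr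
    exact ⟨hrD, H.fuse hrD (mul_mem (mul_mem hrr ⟨_, rfl⟩) (inv_mem hrr))⟩
  obtain ⟨P, hP⟩ := IsPGroup.exists_le_sylow (p := 2) (P := R.subgroupOf N) (IsPGroup.of_card (n := 5) (by
    rw [Nat.card_congr (Subgroup.subgroupOfEquivOfLe hRN).toEquiv, hc]))
  have hPe : (P : Subgroup N) = R.subgroupOf N := by
    refine (Subgroup.eq_of_le_of_card_ge hP ?_).symm
    rw [Nat.card_congr (Subgroup.subgroupOfEquivOfLe hRN).toEquiv, hc]
    obtain ⟨n, hn⟩ := IsPGroup.iff_card.1 P.isPGroup'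
    rw [hn]
    by_contra hlt
    have h6 : 6 ≤ n := by
      by_contra h5
      exact hlt (Nat.pow_le_pow_right (by norm_num) (by omega))
    refine H.two_part.2 (((pow_dvd_pow 2 h6).trans (hn ▸ Subgroup.card_subgroup_dvd_card (P : Subgroup N))).trans ?_)
    exact Subgroup.card_dvd_of_le (fun k hk => hk.1)
  set y := g * im Φ pa1 * g⁻¹ with hy
  have hyN : y ∈ N := ⟨mul_mem (mul_mem hg h1D) (inv_mem hg), h⟩
  have hy2 : orderOf (⟨y, hyN⟩ : N) = 2 := by
    rw [Subgroup.orderOf_mk]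
    exact orderOf_eq_prime (by rw [sq, hy, show g * im Φ pa1 * g⁻¹ * (g * im Φ pa1 * g⁻¹) =
      g * (im Φ pa1 * im Φ pa1) * g⁻¹ by group, h12]; group) (fun e => h1ne (conj_eq_one_iff.1 e))
  obtain ⟨S, hS⟩ := IsPGroup.exists_le_sylow (p := 2) (P := Subgroup.zpowers (⟨y, hyN⟩ : N))
    (IsPGroup.of_card (n := 1) (by rw [Nat.card_zpowers, hy2, pow_one]))
  obtain ⟨n, hn⟩ := CfsgLib.Invol.sylow_exists_conj P S
  have h3 := (hn _).1 (hS (Subgroup.mem_zpowers _))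
  rw [hPe, Subgroup.mem_subgroupOf] at h3
  have h4 : (n : G)⁻¹ * y * (n : G) ∈ R := h3
  have h5 := H.fuse (g := (n : G)⁻¹ * g) (mul_mem (inv_mem n.2.1) hg) (by
    rw [show (n : G)⁻¹ * g * im Φ pa1 * ((n : G)⁻¹ * g)⁻¹ = (n : G)⁻¹ * y * (n : G) by rw [hy]; group]
    exact (Subgroup.mem_inf.1 h4).2)
  rw [show (n : G)⁻¹ * g * im Φ pa1 * ((n : G)⁻¹ * g)⁻¹ = (n : G)⁻¹ * y * (n : G) by rw [hy]; group] at h5
  have e : y = (n : G) * ((n : G)⁻¹ * y * (n : G)) * (n : G)⁻¹ := by group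
  rw [e]
  rcases h5 with h5 | h5 <;> rw [h5]
  exacts [n.2.2, (H.conj_two n.2.1 n.2.2).1]

omit [Finite G] in
theorem Hyp.za_iff {g : G} : g ∈ Subgroup.zpowers (im Φ pa) ↔ g = 1 ∨ g = im Φ pa := by
  refine ⟨fun h => ?_, fun h => ?_⟩
  · obtain ⟨k, rfl⟩ := Subgroup.mem_zpowers_iff.1 h
    have ha2 : im Φ pa ^ (2 : ℤ) = 1 := by
      rw [zpow_two, ← im_mul Φ std_even.1 std_even.1, show pa * pa = 1 by decide +kernel, im_one]
    rcases Int.even_or_odd' k with ⟨m, rfl | rfl⟩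
    · left; rw [zpow_mul, ha2, one_zpow]
    · right; rw [zpow_add, zpow_mul, ha2, one_zpow, one_mul, zpow_one]
  · rcases h with rfl | rfl
    · exact one_mem _
    · exact Subgroup.mem_zpowers _

/-- The four group is normal in the centralizer. -/
theorem Hyp.four_normal {g : G} (hg : g ∈ DA Φ) :
    g * im Φ pa1 * g⁻¹ = im Φ pa1 ∨ g * im Φ pa1 * g⁻¹ = im Φ pa2 := by
  classical
  obtain ⟨ha2, hane, e12, e21, h12, h1ne, h1a, h21, h1D, haD⟩ := H.basic
  have hcomm1 : im Φ pa * im Φ pa1 = im Φ pa1 * im Φ pa :=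
    (Subgroup.mem_centralizer_singleton_iff.1 h1D).symm
  set Z : Subgroup ↥(DA Φ) := (Subgroup.zpowers (im Φ pa)).subgroupOf (DA Φ) with hZ
  haveI : Z.Normal := ⟨fun p hp k => by
    rw [hZ, Subgroup.mem_subgroupOf, H.za_iff] at hp ⊢
    rcases hp with hp | hp
    · left; simp [hp]
    · right
      rw [Subgroup.coe_mul, Subgroup.coe_mul, Subgroup.coe_inv, hp]
      exact mul_inv_eq_iff_eq_mul.2 (Subgroup.mem_centralizer_singleton_iff.1 k.2)⟩
  let q := QuotientGroup.mk' Z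
  have hq : ∀ p k : ↥(DA Φ), q p = q k ↔ (k : G) = p ∨ (k : G) = p * im Φ pa := fun p k => by
    show (p : ↥(DA Φ) ⧸ Z) = (k : ↥(DA Φ) ⧸ Z) ↔ _
    rw [QuotientGroup.eq, hZ, Subgroup.mem_subgroupOf, Subgroup.coe_mul, Subgroup.coe_inv, H.za_iff,
      inv_mul_eq_one, inv_mul_eq_iff_eq_mul, eq_comm]
  have hq1 : ∀ p : ↥(DA Φ), q p = 1 ↔ (p : G) = 1 ∨ (p : G) = im Φ pa := fun p => by
    rw [show q p = 1 ↔ p ∈ Z from QuotientGroup.eq_one_iff p, hZ, Subgroup.mem_subgroupOf, H.za_iff]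
  set d : ↥(DA Φ) := ⟨im Φ pa1, h1D⟩
  have hd2 : orderOf (q d) = 2 := orderOf_eq_prime (by
    rw [sq, ← map_mul, hq1]; exact Or.inl h12) (by rw [Ne, hq1]; rintro (h | h); exacts [h1ne h, h1a h])
  have hiso : IsIsolatedInvolution (q d) := by
    refine ⟨hd2, fun k' hk => ?_⟩
    obtain ⟨k, rfl⟩ := QuotientGroup.mk'_surjective Z k'
    rw [← map_inv, ← map_mul, ← map_mul] at hk ⊢
    have h := (hq _ _).1 ((map_mul q _ _).trans (hk.eq.trans (map_mul q _ _).symm))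
    simp only [Subgroup.coe_mul, Subgroup.coe_inv] at h
    set y := (k : G) * im Φ pa1 * (k : G)⁻¹ with hy
    have hst := H.comm_stays k.2 (by
      rw [← hy]
      rcases h with h | h
      · left
        show y * im Φ pa1 * y⁻¹ = im Φ pa1
        rw [show y * im Φ pa1 = im Φ pa1 * y from h]; group
      · right
        show y * im Φ pa1 * y⁻¹ = im Φ pa2
        have hay : im Φ pa * y = y * im Φ pa :=
          (Subgroup.mem_centralizer_singleton_iff.1 (mul_mem (mul_mem k.2 h1D) (inv_mem k.2))).symm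
        rw [show y * im Φ pa1 = im Φ pa1 * y * im Φ pa from h, mul_assoc (im Φ pa1), ← hay, ← mul_assoc,
          mul_inv_cancel_right, ← hcomm1, e12])
    symm
    rw [hq]
    simp only [Subgroup.coe_mul, Subgroup.coe_inv]
    rcases hst with h' | h'
    · exact Or.inl h'
    · right; rw [h']; show im Φ pa2 = im Φ pa1 * im Φ pa; rw [← hcomm1, e12]
  have hO : oddCore (↥(DA Φ) ⧸ Z) = ⊥ := by
    refine CfsgLib.Invol.oddCore_eq_bot_of fun N hN hodd => ?_
    haveI := hN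
    have hordN : ∀ n ∈ N, Odd (orderOf n) := fun n hn => by
      refine Odd.of_dvd_nat hodd ?_
      have h := orderOf_dvd_natCard (⟨n, hn⟩ : N)
      rwa [Subgroup.orderOf_mk] at h
    have hfix : ∀ w : P8, w ∈ CA → Zt w → ∀ n ∈ N, ∀ hw : im Φ w ∈ DA Φ,
        n * q ⟨im Φ w, hw⟩ = q ⟨im Φ w, hw⟩ * n → n = 1 := by
      intro w hwA hwZ n hn hw hcomm
      obtain ⟨p0, rfl⟩ := QuotientGroup.mk'_surjective Z n
      set m := orderOf (q p0) with hm
      obtain ⟨j, hj⟩ := hordN _ hn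
      set p := p0 ^ (m + 1) with hp
      have hqp : q p = q p0 := by rw [hp, map_pow, pow_succ, hm, pow_orderOf_eq_one, one_mul]
      have hp0 : ((p0 : G) ^ m) ^ 2 = 1 := by
        have h1 : q (p0 ^ m) = 1 := by rw [map_pow, hm, pow_orderOf_eq_one]
        rcases (hq1 _).1 h1 with h1 | h1 <;> rw [Subgroup.coe_pow] at h1 <;> rw [h1]
        · exact one_pow _
        · rw [sq, ha2]
      have hpm : (p : G) ^ m = 1 := by
        rw [hp, Subgroup.coe_pow, ← pow_mul, show (m + 1) * m = m * 2 * (j + 1) by rw [hm, hj]; ring,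
          pow_mul, pow_mul, hp0, one_pow]
      set k : ↥(DA Φ) := ⟨im Φ w, hw⟩
      have h := (hq _ _).1 (show q (p * k) = q (k * p) by rw [map_mul, map_mul, hqp]; exact hcomm)
      simp only [Subgroup.coe_mul] at h
      have hpk : (k : G) * p = p * k := by
        rcases h with h | h
        · exact h
        · exfalso
          have hpa : (p : G) * im Φ pa = im Φ pa * p := Subgroup.mem_centralizer_singleton_iff.1 p.2
          have hka : (k : G) * im Φ pa = im Φ pa * k := Subgroup.mem_centralizer_singleton_iff.1 k.2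
          have e : (k : G) * p * (k : G)⁻¹ = p * im Φ pa := by
            rw [h, mul_assoc (p : G), hka]; group
          have e1 : ((p : G) * im Φ pa) ^ m = 1 := by
            rw [← e, conj_pow, hpm, mul_one, mul_inv_cancel]
          rw [Commute.mul_pow hpa, hpm, one_mul, show m = 2 * j + 1 from hm ▸ hj, pow_succ, pow_mul, sq, ha2,
            one_pow, one_mul] at e1
          exact hane e1
      have hws : sign w = 1 := ca_sign hwA
      have hpr : (p : G) ∈ Φ.range :=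
        H.cent_K (y := E w) (by rw [E_coe hws]; exact hwZ) hpk.symm
      obtain ⟨c, hc, hpc⟩ := H.mem_DA_range.1 ⟨p.2, hpr⟩
      have hcs := ca_sign hc
      have hpow : ∀ i : ℕ, im Φ (c ^ i) = im Φ c ^ i := by
        intro i
        induction i with
        | zero => rw [pow_zero, pow_zero, im_one]
        | succ i ih => rw [pow_succ, pow_succ, im_mul Φ (by rw [map_pow, hcs, one_pow]) hcs, ih]
      have hcm : c ^ m = 1 := H.im_inj (by rw [map_pow, hcs, one_pow]) (map_one _)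
        ((hpow m).trans ((by rw [← hpc]; exact hpm : im Φ c ^ m = 1).trans (im_one Φ).symm))
      have hc3 : c * c * c = 1 := by
        have hd : orderOf c ∣ m := orderOf_dvd_of_pow_eq_one hcm
        have h96 : orderOf c ∣ 96 := by
          have hR : Nat.card (DA Φ ⊓ Φ.range : Subgroup G) = 96 := by
            rw [← ca_length]
            exact H.card_list _ _ (fun _ h => h) ca_nodup fun g => by
              rw [Subgroup.mem_inf]; exact H.mem_DA_range
          rw [← hR]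
          refine orderOf_dvd_of_pow_eq_one ?_
          have h' := pow_card_eq_one' (x := (⟨im Φ c, H.mem_DA_range.2 ⟨c, hc, rfl⟩⟩ : (DA Φ ⊓ Φ.range : Subgroup G)))
          have h'' := congrArg Subtype.val h'
          rw [Subgroup.coe_pow] at h''
          exact H.im_inj (by rw [map_pow, hcs, one_pow]) (map_one _)
            ((hpow _).trans (h''.trans (im_one Φ).symm))
        have hdo : Odd (orderOf c) := Odd.of_dvd_nat ⟨j, hm ▸ hj⟩ hd
        have h3 : orderOf c ∣ 3 :=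
          (Nat.Coprime.dvd_of_dvd_mul_left ((hdo.coprime_two_right).pow_right 5) (by norm_num; exact h96))
        rw [mul_assoc, ← sq, ← pow_succ']
        exact orderOf_dvd_iff_pow_eq_one.1 h3
      by_contra hne
      have hc1 : c ≠ 1 := fun e => hne (by
        rw [← hqp, hq1]; left; rw [hpc, e, im_one])
      obtain ⟨w2, w1, wa⟩ := three_comm c hc hc3 hc1
      set sg : ↥(DA Φ) := ⟨im Φ ps, (H.mem_DA_range.2 ⟨_, ca_misc.2.2.2.2.1, rfl⟩).1⟩
      have hmem : q (p * sg * p⁻¹ * sg⁻¹) ∈ N := by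
        simp only [map_mul, map_inv]
        rw [show q p * q sg * (q p)⁻¹ * (q sg)⁻¹ = q p * (q sg * (q p)⁻¹ * (q sg)⁻¹) by group]
        rw [← hqp] at hn
        exact mul_mem hn (hN.conj_mem _ (inv_mem hn) _)
      set cc := c * ps * c⁻¹ * ps⁻¹ with hcc
      have hval : ((p * sg * p⁻¹ * sg⁻¹ : ↥(DA Φ)) : G) = im Φ cc := by
        have hss := std_even.2.2.2.2.1
        simp only [Subgroup.coe_mul, Subgroup.coe_inv]
        rw [hpc, hcc, im_mul Φ (by simp [map_mul, hcs, hss]) (by rw [map_inv, hss, inv_one]),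
          im_mul Φ (by simp [map_mul, hcs, hss]) (by rw [map_inv, hcs, inv_one]), im_mul Φ hcs hss,
          im_inv Φ hcs, im_inv Φ hss]
      have hccs : sign cc = 1 := by simp [hcc, map_mul, hcs, std_even.2.2.2.2.1]
      have hsq : q (p * sg * p⁻¹ * sg⁻¹) ^ 2 = 1 := by
        rw [sq, ← map_mul, hq1]
        left
        rw [Subgroup.coe_mul, hval, ← im_mul Φ hccs hccs, w2, im_one]
      have hone : q (p * sg * p⁻¹ * sg⁻¹) = 1 := orderOf_eq_one_iff.1 (Nat.eq_one_of_dvd_coprimes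
        (hordN _ hmem).coprime_two_right dvd_rfl (orderOf_dvd_of_pow_eq_one hsq))
      rcases (hq1 _).1 hone with h0 | h0 <;> rw [hval] at h0
      · exact w1 (H.im_inj hccs (map_one _) (h0.trans (im_one Φ).symm))
      · exact wa (H.im_inj hccs std_even.1 h0)
    have hinv : ∀ w : P8, (hwA : w ∈ CA) → Zt w → ∀ n ∈ N,
        q ⟨im Φ w, (H.mem_DA_range.2 ⟨w, hwA, rfl⟩).1⟩ * n *
          (q ⟨im Φ w, (H.mem_DA_range.2 ⟨w, hwA, rfl⟩).1⟩)⁻¹ = n⁻¹ := by
      intro w hwA hwZ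
      refine inverts_of_fixed N ?_ fun o ho he => hfix w hwA hwZ o ho _ he
      rw [← map_mul, hq1]
      left
      rw [Subgroup.coe_mul]
      show im Φ w * im Φ w = 1
      rw [← im_mul Φ (ca_sign hwA) (ca_sign hwA), show w * w = 1 from Equiv.ext hwZ.1, im_one]
    rw [eq_bot_iff]
    intro n hn
    rw [Subgroup.mem_bot]
    obtain ⟨-, -, -, -, ek, ez, -, hzA, hvA, -, -⟩ := swap_pair
    have i1 := hinv pk1 ca_misc.2.2.2.2.2.1 std_types.2.1 n hn
    have i2 := hinv pk2 ca_misc.2.2.2.2.2.2.1 std_types.2.2.1 _ (inv_mem hn)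
    have i0 := hinv pz hzA std_types.1 n hn
    set K1 := q ⟨im Φ pk1, (H.mem_DA_range.2 ⟨pk1, ca_misc.2.2.2.2.2.1, rfl⟩).1⟩
    set K2 := q ⟨im Φ pk2, (H.mem_DA_range.2 ⟨pk2, ca_misc.2.2.2.2.2.2.1, rfl⟩).1⟩
    set K0 := q ⟨im Φ pz, (H.mem_DA_range.2 ⟨pz, hzA, rfl⟩).1⟩
    have hK : K1 * K2 = K0 := by
      rw [← map_mul, hq]
      right
      rw [Subgroup.coe_mul]
      show im Φ pz = im Φ pk1 * im Φ pk2 * im Φ pa
      rw [← im_mul Φ std_even.2.2.2.2.2.2.1 std_even.2.2.2.2.2.2.2.1, ek,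
        ← im_mul Φ std_even.2.2.2.1 std_even.1]
      congr 1
      decide +kernel
    have hn2 : n = n⁻¹ := by
      calc n = K1 * (K2 * n * K2⁻¹) * K1⁻¹ := by
            rw [show K2 * n * K2⁻¹ = n⁻¹ from by
              have := i2; rw [inv_inv] at this
              calc K2 * n * K2⁻¹ = (K2 * n⁻¹ * K2⁻¹)⁻¹ := by group
                _ = n⁻¹ := by rw [this]]
            rw [show K1 * n⁻¹ * K1⁻¹ = (K1 * n * K1⁻¹)⁻¹ by group, i1, inv_inv]
        _ = K0 * n * K0⁻¹ := by rw [← hK]; group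
        _ = n⁻¹ := i0
    have h2 : n ^ 2 = 1 := by rw [sq]; nth_rewrite 2 [hn2]; exact mul_inv_cancel n
    exact orderOf_eq_one_iff.1 (Nat.eq_one_of_dvd_coprimes (hordN n hn).coprime_two_right dvd_rfl
      (orderOf_dvd_of_pow_eq_one h2))
  have hcen := CfsgLib.Invol.zstar_center hiso hO
  have h := (hq d (⟨g, hg⟩ * d * ⟨g, hg⟩⁻¹)).1 (by
    rw [map_mul, map_mul, map_inv, (Subgroup.mem_center_iff.1 hcen (q ⟨g, hg⟩))]; group)
  simp only [Subgroup.coe_mul, Subgroup.coe_inv] at h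
  rcases h with h | h
  · exact Or.inl h
  · right; rw [h]; show im Φ pa1 * im Φ pa = im Φ pa2; rw [← hcomm1, e12]

end CfsgLib.ExtraThirtyTwo.Eight.Alt
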