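import Cfsg.Agent.Lib.ExtraThirtyTwo.Eight.Alt.Nine

/-!
# The alternating groups of degree eight and nine
-/

set_option autoImplicit false

noncomputable section

namespace CfsgLib.ExtraThirtyTwo.Eight.Alt

open Equiv Equiv.Perm Subgroup

variable {G : Type*} [Group G] [Finite G] {Φ : A8G →* G} (H : Hyp Φ)
include H

theorem Hyp.surjective_of_small (hD : Nat.card (DA Φ) = 96) : Function.Surjective Φ := by
  classical
  have hsub : DA Φ ≤ Φ.range := by
    have h96 : Nat.card (DA Φ ⊓ Φ.range : Subgroup G) = 96 := by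
      rw [← ca_length]
      exact H.card_list _ _ (fun _ h => h) ca_nodup fun g => by
        rw [Subgroup.mem_inf]; exact H.mem_DA_range
    exact inf_eq_left.1 (Subgroup.eq_of_le_of_card_ge inf_le_left (by rw [h96, hD]))
  have hzs := std_even.2.2.2.2.2.1
  have hzt : Zt ((E pz : A8G) : P8) := by rw [E_coe hzs]; exact std_types.1
  have hz2 : im Φ pz * im Φ pz = 1 := by
    rw [← im_mul Φ hzs hzs, show pz * pz = 1 from Equiv.ext std_types.1.1, im_one]
  have hz1 : im Φ pz ≠ 1 := fun e =>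
    absurd (H.im_inj hzs (map_one _) (e.trans (im_one Φ).symm)) (by decide +kernel)
  intro g
  refine MonoidHom.mem_range.1 (H.trans_K hzt (g := g) ?_)
  set u := g * im Φ pz * g⁻¹ with hu
  have hu2 : orderOf u = 2 := orderOf_eq_prime (by
    rw [sq, hu, show g * im Φ pz * g⁻¹ * (g * im Φ pz * g⁻¹) = g * (im Φ pz * im Φ pz) * g⁻¹ by group, hz2]
    group) (fun e => hz1 (conj_eq_one_iff.1 e))
  have ha2 : orderOf (im Φ pa) = 2 := orderOf_eq_prime (by rw [sq]; exact H.basic.1) H.basic.2.1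
  obtain ⟨w, hw2, hwu, hwa, -⟩ := CfsgLib.Invol.exists_common_involution hu2 ha2
    (fun hc => H.hne ((isConj_iff.2 ⟨g, rfl⟩).trans hc))
  obtain ⟨y, hy⟩ := hsub (Subgroup.mem_centralizer_singleton_iff.2 hwa.eq)
  have hy2 : y * y = 1 := H.inj (by rw [map_mul, hy, map_one, ← sq, ← hw2, pow_orderOf_eq_one])
  have hy1 : y ≠ 1 := fun e => by
    rw [e, map_one] at hy
    rw [← hy, orderOf_one] at hw2
    omega
  show u ∈ Φ.range
  rcases invol_cases hy2 hy1 with hz | hd
  · exact H.cent_K hz (by rw [hy]; exact hwu.eq.symm)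
  · obtain ⟨c, hc⟩ := conj_A (Φ := Φ) hd
    have hcr : Φ c ∈ Φ.range := ⟨c, rfl⟩
    have h := hsub (x := (Φ c)⁻¹ * u * Φ c) (Subgroup.mem_centralizer_singleton_iff.2 (by
      have e : u * (Φ c * im Φ pa * (Φ c)⁻¹) = Φ c * im Φ pa * (Φ c)⁻¹ * u := by
        rw [hc, hy]; exact hwu.eq.symm
      calc (Φ c)⁻¹ * u * Φ c * im Φ pa = (Φ c)⁻¹ * (u * (Φ c * im Φ pa * (Φ c)⁻¹)) * Φ c := by group
        _ = _ := by rw [e]; group))
    have h2 := mul_mem (mul_mem hcr h) (inv_mem hcr)
    rwa [show Φ c * ((Φ c)⁻¹ * u * Φ c) * (Φ c)⁻¹ = u by group] at h2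

theorem Hyp.classify :
    Nonempty (G ≃* alternatingGroup (Fin 8)) ∨ Nonempty (G ≃* alternatingGroup (Fin 9)) := by
  classical
  rcases H.dichotomy with hD | ⟨hD, hv⟩
  · exact Or.inl ⟨(MulEquiv.ofBijective Φ ⟨H.inj, H.surjective_of_small hD⟩).symm⟩
  right
  obtain ⟨⟨x, X⟩, h5⟩ := H.exists_seven hD hv
  let f : Option (Fin 8) → Om Φ := fun o => o.elim (b0 Φ) (nb X)
  have hf : Function.Bijective f := by
    constructor
    · rintro (_ | i) (_ | j) h
      · rfl
      · exact (X.nb_ne H j h.symm).elim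
      · exact (X.nb_ne H i h).elim
      · exact congrArg some (X.nb_inj H h)
    · intro w
      rcases X.all_nine H h5 w with rfl | ⟨k, rfl⟩
      exacts [⟨none, rfl⟩, ⟨some k, rfl⟩]
  let e9 : Om Φ ≃ Fin 9 := (Equiv.ofBijective f hf).symm.trans (finSuccEquiv 8).symm
  let ρ : G →* Equiv.Perm (Fin 9) := e9.permCongrHom.toMonoidHom.comp (MulAction.toPermHom G (Om Φ))
  haveI : IsSimpleGroup A8G := alternatingGroup.isSimpleGroup (by simp)
  have hker : ∀ g, ρ g = 1 → g = 1 := by
    intro g hg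
    have hall : ∀ w : Om Φ, g • w = w := fun w => by
      have h1 : MulAction.toPermHom G (Om Φ) g = 1 :=
        e9.permCongrHom.injective (hg.trans (map_one e9.permCongrHom).symm)
      exact Equiv.congr_fun h1 w
    obtain ⟨y, rfl⟩ := (fix_b0 Φ g).1 (hall _)
    rcases (inferInstance : ((MulAction.toPermHom G (Om Φ)).comp Φ).ker.Normal).eq_bot_or_eq_top with hb | ht
    · have hy : y ∈ ((MulAction.toPermHom G (Om Φ)).comp Φ).ker := Equiv.ext hall
      rw [hb, Subgroup.mem_bot] at hy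
      rw [hy, map_one]
    · exfalso
      obtain ⟨c, hc⟩ := exists_to 6
      have hmem : c ∈ ((MulAction.toPermHom G (Om Φ)).comp Φ).ker := ht ▸ Subgroup.mem_top c
      have hfix : Φ c • x = x := Equiv.congr_fun (MonoidHom.mem_ker.1 hmem) x
      rw [X.stab H, hc] at hfix
      exact absurd hfix (by decide)
  have hρ : Function.Injective ρ := (injective_iff_map_eq_one ρ).2 hker
  have hG : Nat.card G = 181440 := by
    have h := Subgroup.card_mul_index Φ.range
    rw [Nat.card_congr (MonoidHom.ofInjective H.inj).toEquiv.symm, Subgroup.index_eq_card,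
      Nat.card_congr e9, Nat.card_fin, nat_card_alternatingGroup, Nat.card_fin] at h
    rw [← h]; rfl
  have hidx : ρ.range.index = 2 := by
    have h := Subgroup.card_mul_index ρ.range
    rw [Nat.card_congr (MonoidHom.ofInjective hρ).toEquiv.symm, hG, Nat.card_perm, Nat.card_fin] at h
    norm_num [Nat.factorial] at h
    omega
  exact ⟨(MonoidHom.ofInjective hρ).trans
    (MulEquiv.subgroupCongr (Equiv.Perm.eq_alternatingGroup_of_index_eq_two hidx))⟩

end CfsgLib.ExtraThirtyTwo.Eight.Alt
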