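import Cfsg.Agent.Lib.ExtraThirtyTwo.Eight.Alt.Local

/-!
# The five points fixed by a double transposition
-/

set_option autoImplicit false
set_option maxRecDepth 100000

noncomputable section

namespace CfsgLib.ExtraThirtyTwo.Eight.Alt

open Equiv Equiv.Perm Subgroup

attribute [local instance 5000] List.decidableBAll List.decidableBEx

variable {G : Type*} [Group G]

/-- The cosets of the alternating subgroup. -/
abbrev Om (Φ : A8G →* G) : Type _ := G ⧸ Φ.range

/-- The base coset. -/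
def b0 (Φ : A8G →* G) : Om Φ := ((1 : G) : G ⧸ Φ.range)

theorem smul_b0 (Φ : A8G →* G) (g : G) : g • b0 Φ = ((g : G) : G ⧸ Φ.range) := by
  show ((g * 1 : G) : G ⧸ Φ.range) = _
  rw [mul_one]

theorem fix_b0 (Φ : A8G →* G) (g : G) : g • b0 Φ = b0 Φ ↔ g ∈ Φ.range := by
  rw [smul_b0, b0, QuotientGroup.eq, mul_one, inv_mem_iff]

theorem fix_iff (Φ : A8G →* G) (g h : G) : g • (h • b0 Φ) = h • b0 Φ ↔ h⁻¹ * g * h ∈ Φ.range := by
  rw [← fix_b0 Φ, mul_smul, mul_smul, inv_smul_eq_iff]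

theorem exists_rep (Φ : A8G →* G) (w : Om Φ) : ∃ g : G, w = g • b0 Φ := by
  induction w using QuotientGroup.induction_on with
  | _ g => exact ⟨g, (smul_b0 Φ g).symm⟩

theorem im_fix (Φ : A8G →* G) (y : P8) : im Φ y • b0 Φ = b0 Φ := (fix_b0 Φ _).2 ⟨_, rfl⟩

variable [Finite G] {Φ : A8G →* G} (H : Hyp Φ)
include H

theorem Hyp.fixed_orbit {w : Om Φ} : im Φ pa • w = w ↔ ∃ d ∈ DA Φ, w = d • b0 Φ := by
  constructor
  · intro hw
    obtain ⟨g, rfl⟩ := exists_rep Φ w
    obtain ⟨y, hy⟩ := (fix_iff Φ _ _).1 hw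
    have hac : im Φ pa * im Φ pa = 1 := H.basic.1
    have h2 : y * y = 1 := H.inj (by
      rw [map_mul, hy, map_one, show g⁻¹ * im Φ pa * g * (g⁻¹ * im Φ pa * g) =
        g⁻¹ * (im Φ pa * im Φ pa) * g by group, hac]; group)
    have h1 : y ≠ 1 := fun e => H.basic.2.1 (by
      rw [e, map_one] at hy
      calc im Φ pa = g * (g⁻¹ * im Φ pa * g) * g⁻¹ := by group
        _ = 1 := by rw [← hy]; group)
    rcases invol_cases h2 h1 with hz | hd
    · have hK := K_of (Φ := Φ) hz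
      rw [hy] at hK
      exact (H.hne (hK.trans (isConj_iff.2 ⟨g, by group⟩))).elim
    · obtain ⟨c, hc⟩ := conj_A (Φ := Φ) hd
      refine ⟨g * Φ c, Subgroup.mem_centralizer_singleton_iff.2 ?_, ?_⟩
      · calc g * Φ c * im Φ pa = g * (Φ c * im Φ pa * (Φ c)⁻¹) * Φ c := by group
          _ = im Φ pa * (g * Φ c) := by rw [show Φ c * im Φ pa * (Φ c)⁻¹ = g⁻¹ * im Φ pa * g from hc.trans hy]; group
      · rw [mul_smul, (fix_b0 Φ _).2 ⟨c, rfl⟩]
  · rintro ⟨d, hd, rfl⟩
    rw [← mul_smul, ← (Subgroup.mem_centralizer_singleton_iff.1 hd), mul_smul, im_fix]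

theorem Hyp.D_preserves {d : G} (hd : d ∈ DA Φ) {w : Om Φ} (hw : im Φ pa • w = w) :
    im Φ pa • (d • w) = d • w := by
  rw [← mul_smul, ← (Subgroup.mem_centralizer_singleton_iff.1 hd), mul_smul, hw]

theorem Hyp.V0_fixes {g : G} (hg : g ∈ V0 Φ) {w : Om Φ} (hw : im Φ pa • w = w) : g • w = w := by
  obtain ⟨d, hd, rfl⟩ := H.fixed_orbit.1 hw
  rw [fix_iff]
  obtain ⟨p, hp, rfl⟩ := hg
  obtain ⟨-, -, e12, e21, -⟩ := H.basic
  have hA : d⁻¹ * im Φ pa * d = im Φ pa := by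
    rw [mul_assoc, ← Subgroup.mem_centralizer_singleton_iff.1 hd]; group
  have h1 : d⁻¹ * im Φ pa1 * d = im Φ pa1 ∨ d⁻¹ * im Φ pa1 * d = im Φ pa2 := by
    have := H.four_normal (inv_mem hd); rwa [inv_inv] at this
  simp only [V1L, List.mem_cons, List.not_mem_nil, or_false] at hp
  rcases hp with rfl | rfl | rfl | rfl
  · rw [im_one, mul_one, inv_mul_cancel]; exact one_mem _
  · rw [hA]; exact ⟨_, rfl⟩
  · rcases h1 with e | e <;> rw [e] <;> exact ⟨_, rfl⟩
  · rw [← e12, show d⁻¹ * (im Φ pa * im Φ pa1) * d = d⁻¹ * im Φ pa * d * (d⁻¹ * im Φ pa1 * d) by group, hA]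
    rcases h1 with e | e <;> rw [e] <;> exact mul_mem ⟨_, rfl⟩ ⟨_, rfl⟩

omit [Finite G] H in
theorem three_closed (S : Subgroup G) (hp : ∀ g ∈ S, im Φ pp * g * (im Φ pp)⁻¹ ∈ S)
    (h : im Φ pv ∈ S ∨ im Φ ps ∈ S ∨ im Φ (pv * ps) ∈ S) : im Φ pv ∈ S ∧ im Φ ps ∈ S := by
  obtain ⟨cpv, cps, cppC, cvC, csC, cvs, cp3, cs2, cv2, cpvs⟩ := three_cycle_four
  have sv := std_even.2.2.2.1
  have ss := std_even.2.2.2.2.1
  have sp := std_even.2.2.2.2.2.2.2.2.2.1
  have conj : ∀ y : P8, sign y = 1 → im Φ y ∈ S → im Φ (pp * y * pp⁻¹) ∈ S := fun y hy hm => by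
    rw [im_mul Φ (by rw [map_mul, sp, hy, one_mul]) (by rw [map_inv, sp, inv_one]), im_mul Φ sp hy, im_inv Φ sp]
    exact hp _ hm
  have sprod : sign (pv * ps) = 1 := by rw [map_mul, sv, ss, one_mul]
  have e3 : im Φ (pv * ps) = im Φ pv * im Φ ps := im_mul Φ sv ss
  simp only [List.mem_cons, List.not_mem_nil, or_false] at cpv cps cpvs
  have of_v : im Φ pv ∈ S → im Φ ps ∈ S := fun hv => by
    rcases cpv with e | e
    · exact e ▸ conj _ sv hv
    · have := e ▸ conj _ sv hv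
      rw [e3] at this
      simpa using mul_mem (inv_mem hv) this
  have of_s : im Φ ps ∈ S → im Φ pv ∈ S := fun hs => by
    rcases cps with e | e
    · exact e ▸ conj _ ss hs
    · have := e ▸ conj _ ss hs
      rw [e3] at this
      simpa using mul_mem this (inv_mem hs)
  rcases h with h | h | h
  · exact ⟨h, of_v h⟩
  · exact ⟨of_s h, h⟩
  · rcases cpvs with e | e
    · have hv := e ▸ conj _ sprod h; exact ⟨hv, of_v hv⟩
    · have hs := e ▸ conj _ sprod h; exact ⟨of_s hs, hs⟩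

/-- The seventh point. -/
structure Seven (Φ : A8G →* G) (x : Om Φ) : Prop where
  fixA : im Φ pa • x = x
  fixP : im Φ pp • x = x
  ne : x ≠ b0 Φ
  movv : im Φ pv • x ≠ x
  movs : im Φ ps • x ≠ x
  uniq : ∀ w : Om Φ, im Φ pa • w = w → im Φ pp • w = w → w = b0 Φ ∨ w = x
  cover : ∀ w : Om Φ, im Φ pa • w = w →
    w = b0 Φ ∨ w = x ∨ w = im Φ pv • x ∨ w = im Φ ps • x ∨ w = im Φ (pv * ps) • x

theorem Hyp.exists_seven (hD : Nat.card (DA Φ) = 480) (hv : ∃ d ∈ DA Φ, d⁻¹ * im Φ pv * d ∉ Φ.range) :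
    (∃ x, Seven Φ x) ∧ Nat.card {w : Om Φ // im Φ pa • w = w} = 5 := by
  classical
  let F := {w : Om Φ // im Φ pa • w = w}
  have hcard : Nat.card F = 5 := by
    have hst : MulAction.stabilizer ↥(DA Φ) (b0 Φ) = Φ.range.subgroupOf (DA Φ) := by
      ext d
      rw [MulAction.mem_stabilizer_iff, Subgroup.mem_subgroupOf, ← fix_b0 Φ]
      rfl
    have h96 : Nat.card (Φ.range.subgroupOf (DA Φ)) = 96 := by
      rw [← Subgroup.inf_subgroupOf_right Φ.range (DA Φ),
        Nat.card_congr (Subgroup.subgroupOfEquivOfLe inf_le_right).toEquiv, ← ca_length]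
      exact H.card_list _ _ (fun _ h => h) ca_nodup fun g => by
        rw [Subgroup.mem_inf, and_comm]; exact H.mem_DA_range
    have horb : MulAction.orbit ↥(DA Φ) (b0 Φ) = {w | im Φ pa • w = w} := by
      ext w
      rw [MulAction.mem_orbit_iff, Set.mem_ofPred_eq, H.fixed_orbit]
      exact ⟨fun ⟨d, e⟩ => ⟨d, d.2, e.symm⟩, fun ⟨d, hd, e⟩ => ⟨⟨d, hd⟩, e.symm⟩⟩
    have h := Subgroup.card_mul_index (Φ.range.subgroupOf (DA Φ))
    rw [← hst, MulAction.index_stabilizer, horb, hst, h96, hD, ← Nat.card_coe_set_eq] at h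
    show Nat.card {w : Om Φ | im Φ pa • w = w} = 5
    omega
  refine ⟨?_, hcard⟩
  haveI : Finite F := Nat.finite_of_card_ne_zero (by omega)
  obtain ⟨e0⟩ : Nonempty (F ≃ Fin 5) := ⟨(Finite.equivFinOfCardEq hcard)⟩
  let B : F := ⟨b0 Φ, im_fix Φ pa⟩
  let e : F ≃ Fin 5 := e0.trans (Equiv.swap (e0 B) 0)
  have eB : e B = 0 := by simp [e]
  let act : ↥(DA Φ) →* Equiv.Perm F :=
    { toFun := fun d =>
        { toFun := fun w => ⟨(d : G) • w.1, H.D_preserves d.2 w.2⟩
          invFun := fun w => ⟨(d : G)⁻¹ • w.1, H.D_preserves (inv_mem d.2) w.2⟩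
          left_inv := fun w => Subtype.ext (inv_smul_smul _ _)
          right_inv := fun w => Subtype.ext (smul_inv_smul _ _) }
      map_one' := Equiv.ext fun w => Subtype.ext (one_smul G w.1)
      map_mul' := fun d d' => Equiv.ext fun w => Subtype.ext (mul_smul (d : G) (d' : G) w.1) }
  let ρ : ↥(DA Φ) →* Equiv.Perm (Fin 5) := (e.permCongrHom).toMonoidHom.comp act
  have ρapp : ∀ (d : ↥(DA Φ)) (w : F), ρ d (e w) = e ⟨(d : G) • w.1, H.D_preserves d.2 w.2⟩ := fun d w => by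
    simp [ρ, act, Equiv.permCongrHom]
  have ρfix : ∀ (d : ↥(DA Φ)) (w : F), ρ d (e w) = e w ↔ (d : G) • w.1 = w.1 := fun d w => by
    rw [ρapp, e.injective.eq_iff, Subtype.ext_iff]
  let el : P8 → ↥(DA Φ) := fun y => if h : y ∈ CA then ⟨im Φ y, (H.mem_DA_range.2 ⟨y, h, rfl⟩).1⟩ else 1
  have hel : ∀ {y : P8}, y ∈ CA → (el y : G) = im Φ y := fun h => by simp [el, h]
  obtain ⟨cpv, cps, cppC, cvC, csC, cvs, cp3, cs2, cv2, cpvs⟩ := three_cycle_four
  have vA := (List.mem_filter.1 cvC).1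
  have sA := (List.mem_filter.1 csC).1
  have pA := (List.mem_filter.1 cppC).1
  have vsA : pv * ps ∈ CA := (List.mem_filter.1 (reps_spec.2.2 (pv * ps) (by decide +kernel))).1
  have r0 : ∀ {y : P8}, y ∈ CA → ρ (el y) 0 = 0 := fun hy => by
    rw [← eB, ρfix, hel hy]; exact im_fix Φ _
  have emul : ∀ {y y' : P8}, y ∈ CA → y' ∈ CA → y * y' ∈ CA → el (y * y') = el y * el y' := fun h h' h'' =>
    Subtype.ext (by rw [Subgroup.coe_mul, hel h, hel h', hel h'', im_mul Φ (ca_sign h) (ca_sign h')])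
  have e1 : el 1 = 1 := Subtype.ext (by
    rw [hel (show (1 : P8) ∈ CA by decide +kernel), im_one, Subgroup.coe_one])
  have one1 : (1 : P8) ∈ CA := by decide +kernel
  have sq1 : ∀ {y : P8}, y ∈ CA → y * y = 1 → ρ (el y) * ρ (el y) = 1 := fun hy h => by
    rw [← map_mul, ← emul hy hy (h.symm ▸ one1), h, e1, map_one]
  -- the subgroup fixing everything
  let K1 : Subgroup G := (ρ.ker).map (DA Φ).subtype
  have hK1 : ∀ {y : P8}, y ∈ CA → (im Φ y ∈ K1 ↔ ρ (el y) = 1) := fun {y} hy => by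
    rw [← hel hy]
    exact ⟨fun ⟨d, hd, e⟩ => (Subtype.ext e : d = el y) ▸ hd, fun h => ⟨el y, h, rfl⟩⟩
  have hv1 : im Φ pv ∉ K1 := fun h => by
    obtain ⟨d, hd, hnot⟩ := hv
    refine hnot ((fix_iff Φ _ _).1 ?_)
    have := (ρfix (el pv) ⟨d • b0 Φ, H.fixed_orbit.2 ⟨d, hd, rfl⟩⟩).1 (by rw [(hK1 vA).1 h]; rfl)
    rwa [hel vA] at this
  have hKn : ∀ g ∈ K1, im Φ pp * g * (im Φ pp)⁻¹ ∈ K1 := by
    rintro _ ⟨d, hd, rfl⟩
    exact ⟨el pp * d * (el pp)⁻¹, (MonoidHom.normal_ker ρ).conj_mem d hd _, by simp [hel pA]⟩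
  have ρp : ρ (el pp) ≠ 1 := fun hp1 => by
    have hN : ∀ {y y' : P8}, y ∈ CA → y' ∈ CA → pp * y * pp⁻¹ = y' → ρ (el y) = ρ (el y') := fun {y y'} hy hy' e => by
      have : el y' = el pp * el y * (el pp)⁻¹ := Subtype.ext (by
        rw [Subgroup.coe_mul, Subgroup.coe_mul, Subgroup.coe_inv, hel hy', hel pA, hel hy, ← e,
          im_mul Φ (by rw [map_mul, ca_sign pA, ca_sign hy, one_mul]) (by rw [map_inv, ca_sign pA, inv_one]),
          im_mul Φ (ca_sign pA) (ca_sign hy), im_inv Φ (ca_sign pA)])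
      rw [this, map_mul, map_mul, map_inv, hp1, one_mul, inv_one, mul_one]
    have hvs : ρ (el (pv * ps)) = ρ (el pv) * ρ (el ps) := by rw [emul vA sA vsA, map_mul]
    simp only [List.mem_cons, List.not_mem_nil, or_false] at cps
    rcases cps with h | h
    · exact hv1 (three_closed K1 hKn (Or.inr (Or.inr ((hK1 vsA).2 (by
        rw [hvs, hN sA vA h, sq1 vA cv2]))))).1
    · have h' := hN sA vsA h
      rw [hvs, right_eq_mul] at h'
      exact hv1 ((hK1 vA).2 h')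
  have ρp3 : ρ (el pp) * ρ (el pp) * ρ (el pp) = 1 := by
    rw [← map_mul, ← map_mul]
    rw [show el pp * el pp * el pp = 1 from Subtype.ext (by
      rw [Subgroup.coe_mul, Subgroup.coe_mul, hel pA, Subgroup.coe_one, ← im_mul Φ (ca_sign pA) (ca_sign pA),
        ← im_mul Φ (by rw [map_mul, ca_sign pA, one_mul]) (ca_sign pA), cp3, im_one]), map_one]
  obtain ⟨i, hi0, hip, huniq⟩ := five_three _ (r0 pA) ρp3 ρp
  set X : F := e.symm i
  have eX : e X = i := e.apply_symm_apply i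
  have hXne : X.1 ≠ b0 Φ := fun h => hi0 (by rw [← eX, ← eB]; congr 1; exact Subtype.ext h)
  have hXP : im Φ pp • X.1 = X.1 := by
    have := (ρfix (el pp) X).1 (by rw [eX]; exact hip)
    rwa [hel pA] at this
  have hsemi : ∀ {y : P8}, (y = pv ∨ y = ps ∨ y = pv * ps) → im Φ y • X.1 ≠ X.1 := by
    intro y hyc hfix
    have h2 := three_closed (MulAction.stabilizer G X.1)
      (fun g hg => mul_mem (mul_mem hXP hg) (inv_mem (show im Φ pp ∈ MulAction.stabilizer G X.1 from hXP))) (by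
      rcases hyc with rfl | rfl | rfl
      · exact Or.inl hfix
      · exact Or.inr (Or.inl hfix)
      · exact Or.inr (Or.inr hfix))
    have fv : ρ (el pv) i = i := by rw [← eX, ρfix, hel vA]; exact h2.1
    have fs : ρ (el ps) i = i := by rw [← eX, ρfix, hel sA]; exact h2.2
    have hc : ρ (el pv) * ρ (el ps) = ρ (el ps) * ρ (el pv) := by
      rw [← map_mul, ← map_mul, ← emul vA sA vsA, ← emul sA vA (cvs ▸ vsA), cvs]
    rcases five_four _ (r0 vA) (sq1 vA cv2) _ (r0 sA) (sq1 sA cs2) hc i hi0 fv fs with h | h | h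
    · exact hv1 ((hK1 vA).2 h)
    · exact hv1 (three_closed K1 hKn (Or.inr (Or.inl ((hK1 sA).2 h)))).1
    · exact hv1 (three_closed K1 hKn (Or.inr (Or.inr ((hK1 vsA).2 (by
        rw [emul vA sA vsA, map_mul, h, sq1 sA cs2]))))).1
  refine ⟨X.1, X.2, hXP, hXne, hsemi (Or.inl rfl), hsemi (Or.inr (Or.inl rfl)), fun w hw hwp => ?_,
    fun w hw => ?_⟩
  · by_cases h0 : e ⟨w, hw⟩ = 0
    · left; exact congrArg Subtype.val (e.injective (h0.trans eB.symm) : (⟨w, hw⟩ : F) = B)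
    · right
      have := huniq _ h0 (by rw [ρfix, hel pA]; exact hwp)
      exact congrArg Subtype.val (e.injective (this.trans eX.symm) : (⟨w, hw⟩ : F) = X)
  · set f := ρ (el pv)
    set g := ρ (el ps)
    have hfg : ρ (el (pv * ps)) = f * g := by rw [emul vA sA vsA, map_mul]
    have hcfg : f * g = g * f := by rw [← map_mul, ← map_mul, ← emul vA sA vsA, ← emul sA vA (cvs ▸ vsA), cvs]
    have mv : ∀ {y : P8}, y ∈ CA → (y = pv ∨ y = ps ∨ y = pv * ps) → ρ (el y) i ≠ i := fun {y} hy hyc h => by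
      rw [← eX, ρfix, hel hy] at h
      exact hsemi hyc h
    have nz : ∀ (d : Equiv.Perm (Fin 5)), d 0 = 0 → d i ≠ 0 := fun d hd h => hi0 (d.injective (h.trans hd.symm))
    have m1 := mv vA (Or.inl rfl)
    have m2 := mv sA (Or.inr (Or.inl rfl))
    have m3 := mv vsA (Or.inr (Or.inr rfl))
    rw [hfg] at m3
    rcases five_cover i (f i) (g i) ((f * g) i) hi0 (nz _ (r0 vA)) (nz _ (r0 sA))
      (nz _ (hfg ▸ r0 vsA)) (Ne.symm m1) (Ne.symm m2) (Ne.symm m3)
      (fun h => m3 (by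
        rw [Equiv.Perm.mul_apply, ← h, ← Equiv.Perm.mul_apply, sq1 vA cv2, Equiv.Perm.one_apply]))
      (fun h => m2 (f.injective h).symm)
      (fun h => m1 (g.injective (by rw [← Equiv.Perm.mul_apply g f, ← hcfg, ← h])))
      (e ⟨w, hw⟩) with h | h | h | h | h
    · left; exact congrArg Subtype.val (e.injective (h.trans eB.symm) : (⟨w, hw⟩ : F) = B)
    · right; left; exact congrArg Subtype.val (e.injective (h.trans eX.symm) : (⟨w, hw⟩ : F) = X)
    · right; right; left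
      rw [← eX, ρapp] at h
      have := congrArg Subtype.val (e.injective h)
      simpa [hel vA] using this
    · right; right; right; left
      rw [← eX, ρapp] at h
      have := congrArg Subtype.val (e.injective h)
      simpa [hel sA] using this
    · right; right; right; right
      rw [← hfg, ← eX, ρapp] at h
      have := congrArg Subtype.val (e.injective h)
      simpa [hel vsA] using this

end CfsgLib.ExtraThirtyTwo.Eight.Alt
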