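import Cfsg.Agent.Lib.ExtraThirtyTwo.Eight.Alt.Setup
import Cfsg.Agent.Lib.Invol.Isolated
import Cfsg.Agent.Lib.Invol.ZStarCor

/-!
# The centralizer of a double transposition: fusion of the four group
-/

set_option autoImplicit false

noncomputable section

namespace CfsgLib.ExtraThirtyTwo.Eight.Alt

open Equiv Equiv.Perm Subgroup
open CfsgLib.ExtraThirtyTwo (exists_normalizing)

variable {G : Type*} [Group G]

/-- The image of an even permutation. -/
abbrev im (Φ : A8G →* G) (y : P8) : G := Φ (E y)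

/-- The centralizer of a double transposition. -/
abbrev DA (Φ : A8G →* G) : Subgroup G := Subgroup.centralizer ({im Φ pa} : Set G)

theorem im_mul (Φ : A8G →* G) {p q : P8} (hp : sign p = 1) (hq : sign q = 1) :
    im Φ (p * q) = im Φ p * im Φ q := by
  simp only [im, E_mul hp hq, map_mul]

theorem im_inv (Φ : A8G →* G) {p : P8} (hp : sign p = 1) : im Φ p⁻¹ = (im Φ p)⁻¹ := by
  simp only [im, E_inv hp, map_inv]

theorem im_one (Φ : A8G →* G) : im Φ 1 = 1 := by simp only [im, E_one, map_one]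

theorem im_comm (Φ : A8G →* G) {p q : P8} (hp : sign p = 1) (hq : sign q = 1) (h : p * q = q * p) :
    im Φ p * im Φ q = im Φ q * im Φ p := by
  rw [← im_mul Φ hp hq, ← im_mul Φ hq hp, h]

theorem ca_sign {y : P8} (hy : y ∈ CA) : sign y = 1 := ca_misc.1 y hy

theorem ca_comm {y : P8} (hy : y ∈ CA) : y * pa = pa * y := c192_comm y (List.mem_filter.1 hy).1

variable {Φ : A8G →* G} (H : Hyp Φ)
include H

theorem Hyp.comm_iff {p q : P8} (hp : sign p = 1) (hq : sign q = 1) :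
    im Φ p * im Φ q = im Φ q * im Φ p ↔ p * q = q * p := by
  refine ⟨fun h => H.im_inj (by rw [map_mul, hp, hq, one_mul]) (by rw [map_mul, hp, hq, one_mul]) ?_,
    im_comm Φ hp hq⟩
  exact (im_mul Φ hp hq).trans (h.trans (im_mul Φ hq hp).symm)

theorem Hyp.mem_DA_range {g : G} : g ∈ DA Φ ∧ g ∈ Φ.range ↔ ∃ y ∈ CA, g = im Φ y := by
  constructor
  · rintro ⟨hg, w, rfl⟩
    refine ⟨w, mem_CA ?_ (mem_alternatingGroup.1 w.2), by rw [im, E_of]⟩
    refine (H.comm_iff (mem_alternatingGroup.1 w.2) std_even.1).1 ?_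
    simp only [im, E_of]
    exact Subgroup.mem_centralizer_singleton_iff.1 hg
  · rintro ⟨y, hy, rfl⟩
    exact ⟨Subgroup.mem_centralizer_singleton_iff.2 (im_comm Φ (ca_sign hy) std_even.1 (ca_comm hy)),
      ⟨_, rfl⟩⟩

theorem Hyp.card_list (S : Subgroup G) (l : List P8) (hl : ∀ y ∈ l, y ∈ CA) (hn : l.Nodup)
    (h : ∀ g, g ∈ S ↔ ∃ y ∈ l, g = im Φ y) : Nat.card S = l.length := by
  classical
  rw [← List.toFinset_card_of_nodup hn, ← Nat.card_eq_finsetCard]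
  refine (Nat.card_eq_of_bijective (fun w : l.toFinset => (⟨im Φ w.1,
    (h _).2 ⟨_, List.mem_toFinset.1 w.2, rfl⟩⟩ : S)) ⟨?_, ?_⟩).symm
  · intro v w e
    exact Subtype.ext (H.im_inj (ca_sign (hl _ (List.mem_toFinset.1 v.2)))
      (ca_sign (hl _ (List.mem_toFinset.1 w.2))) (congrArg Subtype.val e))
  · rintro ⟨g, hg⟩
    obtain ⟨y, hy, rfl⟩ := (h g).1 hg
    exact ⟨⟨y, List.mem_toFinset.2 hy⟩, rfl⟩

theorem Hyp.mem_filter_range {q : P8} (hq : sign q = 1) (g : G) :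
    g ∈ DA Φ ⊓ Subgroup.centralizer ({im Φ q} : Set G) ⊓ Φ.range ↔
      ∃ y ∈ CA.filter (fun y => y * q == q * y), g = im Φ y := by
  rw [Subgroup.mem_inf, Subgroup.mem_inf]
  constructor
  · rintro ⟨⟨h1, h2⟩, h3⟩
    obtain ⟨y, hy, rfl⟩ := H.mem_DA_range.1 ⟨h1, h3⟩
    exact ⟨y, List.mem_filter.2 ⟨hy, beq_iff_eq.2 ((H.comm_iff (ca_sign hy) hq).1
      (Subgroup.mem_centralizer_singleton_iff.1 h2))⟩, rfl⟩
  · rintro ⟨y, hy, rfl⟩
    obtain ⟨hy1, hy2⟩ := List.mem_filter.1 hy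
    exact ⟨⟨(H.mem_DA_range.2 ⟨y, hy1, rfl⟩).1, Subgroup.mem_centralizer_singleton_iff.2
      (im_comm Φ (ca_sign hy1) hq (beq_iff_eq.1 hy2))⟩, ⟨_, rfl⟩⟩

theorem Hyp.card_range_cent {q : P8} (hq : sign q = 1) :
    Nat.card (DA Φ ⊓ Subgroup.centralizer ({im Φ q} : Set G) ⊓ Φ.range : Subgroup G) =
      (CA.filter fun y => y * q == q * y).length :=
  H.card_list _ _ (fun _ hy => (List.mem_filter.1 hy).1) (ca_nodup.filter _) (H.mem_filter_range hq)

variable [Finite G]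

theorem Hyp.not_grow {K R : Subgroup G} (hRK : R ≤ K) (hKD : K ≤ DA Φ) {k : ℕ}
    (hR : Nat.card R = 2 ^ k) (hz : im Φ pz ∈ R) (hr : R ≤ Φ.range)
    (hs : ∀ y ∈ CA, im Φ y ∈ K → (∀ p ∈ R, im Φ y * p * (im Φ y)⁻¹ ∈ R) → im Φ y ∈ R) :
    ¬ 2 ^ (k + 1) ∣ Nat.card K := by
  intro hd
  obtain ⟨r, hrK, hrR, hn, -⟩ := exists_normalizing hRK hR hd
  have hrr : r ∈ Φ.range := H.trans_K (y := E pz) (by rw [E_coe std_even.2.2.2.2.2.1]; exact std_types.1)
    (hr (hn _ hz))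
  obtain ⟨y, hy, rfl⟩ := H.mem_DA_range.1 ⟨hKD hrK, hrr⟩
  exact hrR (hs y hy hrK hn)

theorem Hyp.two_part : 32 ∣ Nat.card (DA Φ) ∧ ¬ 64 ∣ Nat.card (DA Φ) := by
  set R := DA Φ ⊓ Subgroup.centralizer ({im Φ pv} : Set G) ⊓ Φ.range with hR
  have hc : Nat.card R = 2 ^ 5 := by rw [hR, H.card_range_cent std_even.2.2.2.1, syl_card]; norm_num
  have hle : R ≤ DA Φ := inf_le_left.trans inf_le_left
  refine ⟨(show (32 : ℕ) ∣ Nat.card R by rw [hc]; norm_num).trans (Subgroup.card_dvd_of_le hle),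
    fun h64 => H.not_grow hle le_rfl hc ((H.mem_filter_range std_even.2.2.2.1 _).2
      ⟨pz, List.mem_filter.2 ⟨swap_pair.2.2.2.2.2.2.2.1, beq_iff_eq.2 ca_misc.2.2.1⟩, rfl⟩)
      inf_le_right (fun y hy _ hn => ?_) (by norm_num; exact h64)⟩
  refine (H.mem_filter_range std_even.2.2.2.1 _).2 ⟨y, List.mem_filter.2 ⟨hy, beq_iff_eq.2 ?_⟩, rfl⟩
  refine syl_self y hy fun p hp hpv => ?_
  have h1 := hn _ ((H.mem_filter_range std_even.2.2.2.1 _).2
    ⟨p, List.mem_filter.2 ⟨hp, beq_iff_eq.2 hpv⟩, rfl⟩)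
  obtain ⟨q, hq, e⟩ := (H.mem_filter_range std_even.2.2.2.1 _).1 h1
  have hys := ca_sign hy
  have hps := ca_sign hp
  rw [← im_inv Φ hys, ← im_mul Φ hys hps, ← im_mul Φ (by rw [map_mul, hys, hps, one_mul])
    (by rw [map_inv, hys, inv_one])] at e
  rw [H.im_inj (by simp [map_mul, hys, hps]) (ca_sign (List.mem_filter.1 hq).1) e]
  exact beq_iff_eq.1 (List.mem_filter.1 hq).2

theorem Hyp.small_b : ¬ 16 ∣ Nat.card (DA Φ ⊓ Subgroup.centralizer ({im Φ pb} : Set G) : Subgroup G) := by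
  set R := DA Φ ⊓ Subgroup.centralizer ({im Φ pb} : Set G) ⊓ Φ.range with hR
  have hc : Nat.card R = 2 ^ 3 := by
    rw [hR, H.card_range_cent std_even.2.2.2.2.2.2.2.2.1, cb_card]; norm_num
  intro h16
  refine H.not_grow (R := R) inf_le_left inf_le_left hc ((H.mem_filter_range
    std_even.2.2.2.2.2.2.2.2.1 _).2 ⟨pz, List.mem_filter.2
      ⟨swap_pair.2.2.2.2.2.2.2.1, beq_iff_eq.2 ca_misc.2.2.2.1⟩, rfl⟩)
    inf_le_right (fun y _ hy _ => ⟨hy, ⟨_, rfl⟩⟩) (by norm_num; exact h16)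

/-- Conjugates of the second involution of the four group inside the subgroup. -/
theorem Hyp.fuse {g : G} (hg : g ∈ DA Φ) (h : g * im Φ pa1 * g⁻¹ ∈ Φ.range) :
    g * im Φ pa1 * g⁻¹ = im Φ pa1 ∨ g * im Φ pa1 * g⁻¹ = im Φ pa2 := by
  have hga : g * im Φ pa * g⁻¹ = im Φ pa :=
    mul_inv_eq_iff_eq_mul.2 (Subgroup.mem_centralizer_singleton_iff.1 hg)
  have e1 := std_even.2.1
  have e0 := std_even.1
  have hD : g * im Φ pa1 * g⁻¹ ∈ DA Φ :=
    mul_mem (mul_mem hg (H.mem_DA_range.2 ⟨pa1, swap_pair.2.2.2.2.2.2.2.2.2.1, rfl⟩).1) (inv_mem hg)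
  obtain ⟨y, hy, hgy⟩ := H.mem_DA_range.1 ⟨hD, h⟩
  have hys := ca_sign hy
  have hnotK : ∀ (w : P8), Dt w → sign w = 1 → ∀ k : G, ¬ IsConj (im Φ pz) (k * im Φ w * k⁻¹) :=
    fun w hw hws k hc => H.not_K (y := E w) (by rw [E_coe hws]; exact hw)
      (hc.trans (isConj_iff.2 ⟨k, rfl⟩).symm)
  have hy2 : y * y = 1 := by
    refine H.im_inj (by rw [map_mul, hys, one_mul]) (map_one _) ?_
    show im Φ (y * y) = im Φ 1
    rw [im_mul Φ hys hys, im_one, ← hgy, show g * im Φ pa1 * g⁻¹ * (g * im Φ pa1 * g⁻¹) =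
      g * (im Φ pa1 * im Φ pa1) * g⁻¹ by group, ← im_mul Φ e1 e1,
      show pa1 * pa1 = 1 by decide +kernel, im_one, mul_one, mul_inv_cancel]
  have hy1 : y ≠ 1 := fun e => by
    rw [e, im_one, conj_eq_one_iff] at hgy
    exact absurd (H.im_inj e1 (map_one _) (hgy.trans (im_one Φ).symm)) (by decide +kernel)
  have hyD : Dt y := by
    rcases invol_cases (y := E y) (by rw [← E_mul hys hys, hy2, E_one])
      (fun e => hy1 (E_inj hys (map_one _) (e.trans E_one.symm))) with hz | hd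
    · exact (hnotK pa1 std_types.2.2.2.2.1 e1 g (hgy ▸ K_of hz)).elim
    · rwa [E_coe hys] at hd
  have hne : y ≠ pa := fun e => by
    rw [e] at hgy
    have : im Φ pa1 = im Φ pa := mul_left_cancel (mul_right_cancel (hgy.trans hga.symm))
    exact absurd (H.im_inj e1 e0 this) (by decide +kernel)
  rcases candidates y hy hyD hne with hz | hz | hz | ⟨k, hk, hky⟩
  · refine (hnotK pa2 std_types.2.2.2.2.2.1 std_even.2.2.1 g ?_).elim
    rw [← swap_pair.2.2.1, im_mul Φ e0 e1,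
      show g * (im Φ pa * im Φ pa1) * g⁻¹ = g * im Φ pa * g⁻¹ * (g * im Φ pa1 * g⁻¹) by group, hga, hgy,
      ← im_mul Φ e0 hys]
    exact K_of (y := E (pa * y)) (by rw [E_coe (by rw [map_mul, e0, hys, one_mul])]; exact hz)
  · left; rw [hgy, hz]
  · right; rw [hgy, hz]
  · exfalso
    have hks := ca_sign hk
    set m := (im Φ k)⁻¹ * g
    have hma : m * im Φ pa * m⁻¹ = im Φ pa := by
      rw [show m * im Φ pa * m⁻¹ = (im Φ k)⁻¹ * (g * im Φ pa * g⁻¹) * im Φ k by simp only [m]; group, hga,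
        mul_assoc, ← im_comm Φ hks e0 (ca_comm hk)]
      group
    have hmb : m * im Φ pa1 * m⁻¹ = im Φ pb := by
      rw [show m * im Φ pa1 * m⁻¹ = (im Φ k)⁻¹ * (g * im Φ pa1 * g⁻¹) * im Φ k by simp only [m]; group, hgy,
        ← hky]
      have hbs := std_even.2.2.2.2.2.2.2.2.1
      rw [im_mul Φ (by rw [map_mul, hks, hbs, one_mul]) (by rw [map_inv, hks, inv_one]),
        im_mul Φ hks hbs, im_inv Φ hks]
      group
    have hmap : (DA Φ ⊓ Subgroup.centralizer ({im Φ pa1} : Set G)).map (MulAut.conj m).toMonoidHom =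
        DA Φ ⊓ Subgroup.centralizer ({im Φ pb} : Set G) := by
      ext x
      rw [mem_map_conj]
      simp only [Subgroup.mem_inf, Subgroup.mem_centralizer_singleton_iff]
      refine and_congr ?_ ?_
      · conv_rhs => rw [← hma]
        rw [← mul_left_inj m⁻¹, ← mul_right_inj m]
        constructor <;> intro h <;> convert h using 1 <;> group
      · conv_rhs => rw [← hmb]
        rw [← mul_left_inj m⁻¹, ← mul_right_inj m]
        constructor <;> intro h <;> convert h using 1 <;> group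
    refine H.small_b ?_
    rw [← hmap, Subgroup.card_map_of_injective (MulAut.conj m).injective]
    refine Dvd.dvd.trans ?_ (Subgroup.card_dvd_of_le (inf_le_left :
      DA Φ ⊓ Subgroup.centralizer ({im Φ pa1} : Set G) ⊓ Φ.range ≤ _))
    rw [H.card_range_cent e1]
    exact ⟨3, by rw [show (CA.filter fun y => y * pa1 == pa1 * y).length = 48 from cv_card]; norm_num⟩

end CfsgLib.ExtraThirtyTwo.Eight.Alt
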