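import Cfsg.Agent.Lib.ExtraThirtyTwo.Eight.Alt.Central
import Cfsg.Agent.Lib.InvolChar.BSW.Core

/-!
# The order of the centralizer of a double transposition
-/

set_option autoImplicit false

noncomputable section

namespace CfsgLib.ExtraThirtyTwo.Eight.Alt

open Equiv Equiv.Perm Subgroup Cfsg
open CfsgLib.InvolChar

/-- The first four group in the image. -/
def V0 {G : Type*} [Group G] (Φ : A8G →* G) : Subgroup G where
  carrier := {g | ∃ p ∈ V1L, g = im Φ p}
  mul_mem' := by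
    rintro _ _ ⟨p, hp, rfl⟩ ⟨q, hq, rfl⟩
    exact ⟨p * q, v1_mul p hp q hq, (im_mul Φ (ca_sign (List.mem_filter.1 (v1_CV p hp)).1)
      (ca_sign (List.mem_filter.1 (v1_CV q hq)).1)).symm⟩
  one_mem' := ⟨1, by simp [V1L], (im_one Φ).symm⟩
  inv_mem' := by
    rintro _ ⟨p, hp, rfl⟩
    exact ⟨p, hp, by rw [← im_inv Φ (ca_sign (List.mem_filter.1 (v1_CV p hp)).1), v1_inv p hp]⟩

variable {G : Type*} [Group G] [Finite G] {Φ : A8G →* G} (H : Hyp Φ)

/-- The centralizer of the first four group. -/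
abbrev WW (Φ : A8G →* G) : Subgroup G := DA Φ ⊓ Subgroup.centralizer ({im Φ pa1} : Set G)

theorem cv_sign {y : P8} (hy : y ∈ CV) : sign y = 1 := ca_sign (List.mem_filter.1 hy).1

include H

theorem Hyp.mem_WW_range {g : G} : g ∈ WW Φ ∧ g ∈ Φ.range ↔ ∃ y ∈ CV, g = im Φ y := by
  have := H.mem_filter_range std_even.2.1 g
  rw [Subgroup.mem_inf] at this
  exact this

theorem Hyp.mem_WW {y : P8} (hy : y ∈ CV) : im Φ y ∈ WW Φ := (H.mem_WW_range.2 ⟨y, hy, rfl⟩).1

theorem Hyp.V0_central {w g : G} (hw : w ∈ WW Φ) (hg : g ∈ V0 Φ) : w * g = g * w := by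
  obtain ⟨hwA, hw1⟩ := Subgroup.mem_inf.1 hw
  obtain ⟨p, hp, rfl⟩ := hg
  have ca := Subgroup.mem_centralizer_singleton_iff.1 hwA
  have c1 := Subgroup.mem_centralizer_singleton_iff.1 hw1
  simp only [V1L, List.mem_cons, List.not_mem_nil, or_false] at hp
  rcases hp with rfl | rfl | rfl | rfl
  · rw [im_one, mul_one, one_mul]
  · exact ca
  · exact c1
  · rw [← swap_pair.2.2.1, im_mul Φ std_even.1 std_even.2.1, ← mul_assoc, ca, mul_assoc, c1, mul_assoc]

theorem Hyp.index_two : Nat.card (DA Φ) = 2 * Nat.card (WW Φ) := by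
  have hb := (H.mem_DA_range.2 ⟨pb, swap_pair.2.2.2.2.2.2.1, rfl⟩).1
  have hbs := std_even.2.2.2.2.2.2.2.2.1
  have hbc : im Φ pb * im Φ pa1 * (im Φ pb)⁻¹ = im Φ pa2 := by
    rw [← im_mul Φ hbs std_even.2.1, ← im_inv Φ hbs,
      ← im_mul Φ (by rw [map_mul, hbs, std_even.2.1, one_mul]) (by rw [map_inv, hbs, inv_one]), swap_pair.1]
  obtain ⟨-, -, -, -, -, -, -, h21, -, -⟩ := H.basic
  have hW : ∀ g : DA Φ, g ∈ (WW Φ).subgroupOf (DA Φ) ↔ (g : G) * im Φ pa1 * (g : G)⁻¹ = im Φ pa1 := fun g => by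
    rw [Subgroup.mem_subgroupOf, Subgroup.mem_inf, and_iff_right g.2, Subgroup.mem_centralizer_singleton_iff,
      mul_inv_eq_iff_eq_mul]
  have hi : ((WW Φ).subgroupOf (DA Φ)).index = 2 := by
    rw [Subgroup.index_eq_two_iff']
    refine ⟨⟨_, hb⟩, fun g => ?_⟩
    rw [hW, hW, Subgroup.coe_mul,
      show im Φ pb * (g : G) * im Φ pa1 * (im Φ pb * (g : G))⁻¹ =
        im Φ pb * ((g : G) * im Φ pa1 * (g : G)⁻¹) * (im Φ pb)⁻¹ by group]
    rcases H.four_normal g.2 with e | e <;> rw [e]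
    · exact Or.inr ⟨rfl, by rw [hbc]; exact h21⟩
    · refine Or.inl ⟨?_, h21⟩
      rw [← im_mul Φ hbs std_even.2.2.1, ← im_inv Φ hbs,
        ← im_mul Φ (by rw [map_mul, hbs, std_even.2.2.1, one_mul]) (by rw [map_inv, hbs, inv_one]),
        swap_pair.2.1]
  rw [← Subgroup.card_mul_index ((WW Φ).subgroupOf (DA Φ)), hi,
    Nat.card_congr (Subgroup.subgroupOfEquivOfLe (inf_le_left : WW Φ ≤ DA Φ)).toEquiv, mul_comm]

/-- The centralizer has order 96, or it has order 480 and no outside involution is fixed. -/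
theorem Hyp.dichotomy : Nat.card (DA Φ) = 96 ∨
    (Nat.card (DA Φ) = 480 ∧ ∃ d ∈ DA Φ, d⁻¹ * im Φ pv * d ∉ Φ.range) := by
  classical
  haveI : Fact (Nat.Prime 2) := ⟨Nat.prime_two⟩
  obtain ⟨cpv, cps, cppC, cvC, csC, cvs, cp3, cs2, cv2, cpvs⟩ := three_cycle_four
  obtain ⟨nv, ns, nvs, np⟩ := four_not_v1
  set V : Subgroup ↥(WW Φ) := (V0 Φ).subgroupOf (WW Φ) with hV
  haveI : V.Normal := ⟨fun p hp k => by
    rw [hV, Subgroup.mem_subgroupOf] at hp ⊢
    rw [Subgroup.coe_mul, Subgroup.coe_mul, Subgroup.coe_inv, H.V0_central k.2 hp, mul_inv_cancel_right]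
    exact hp⟩
  let q := QuotientGroup.mk' V
  have hq : ∀ p k : ↥(WW Φ), q p = q k ↔ ∃ u ∈ V1L, (k : G) = p * im Φ u := fun p k => by
    show (p : ↥(WW Φ) ⧸ V) = (k : ↥(WW Φ) ⧸ V) ↔ _
    rw [QuotientGroup.eq, hV, Subgroup.mem_subgroupOf, Subgroup.coe_mul, Subgroup.coe_inv]
    exact ⟨fun ⟨u, hu, e⟩ => ⟨u, hu, inv_mul_eq_iff_eq_mul.1 e⟩,
      fun ⟨u, hu, e⟩ => ⟨u, hu, inv_mul_eq_iff_eq_mul.2 e⟩⟩
  let w : P8 → ↥(WW Φ) := fun y => if h : y ∈ CV then ⟨im Φ y, H.mem_WW h⟩ else 1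
  have hw : ∀ {y : P8}, y ∈ CV → (w y : G) = im Φ y := fun h => by simp [w, h]
  have wmul : ∀ {y y' : P8}, y ∈ CV → y' ∈ CV → y * y' ∈ CV → q (w (y * y')) = q (w y) * q (w y') :=
    fun h h' h'' => by
      rw [← map_mul]; congr 1; apply Subtype.ext
      rw [Subgroup.coe_mul, hw h, hw h', hw h'', im_mul Φ (cv_sign h) (cv_sign h')]
  have winj : ∀ {y y' : P8}, y ∈ CV → y' ∈ CV → q (w y) = q (w y') → ∃ u ∈ V1L, y' = y * u := fun h h' e => by
    obtain ⟨u, hu, e⟩ := (hq _ _).1 e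
    rw [hw h, hw h', ← im_mul Φ (cv_sign h) (cv_sign (v1_CV u hu))] at e
    exact ⟨u, hu, H.im_inj (cv_sign h') (by rw [map_mul, cv_sign h, cv_sign (v1_CV u hu), one_mul]) e⟩
  have wone : ∀ {y : P8}, y ∈ CV → (q (w y) = 1 ↔ y ∈ V1L) := fun {y} h => by
    rw [show q (w y) = 1 ↔ w y ∈ V from QuotientGroup.eq_one_iff _, hV, Subgroup.mem_subgroupOf, hw h]
    exact ⟨fun ⟨u, hu, e⟩ => (H.im_inj (cv_sign h) (cv_sign (v1_CV u hu)) e) ▸ hu, fun hy => ⟨y, hy, rfl⟩⟩
  have h1CV : (1 : P8) ∈ CV := v1_CV 1 (by simp [V1L])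
  have hvsC : pv * ps ∈ CV := reps_spec.2.2 _ (by decide +kernel)
  set t := q (w pv) with ht
  set s := q (w ps) with hs
  have ets : t * s = q (w (pv * ps)) := (wmul cvC csC hvsC).symm
  have est : s * t = q (w (pv * ps)) := by rw [cvs]; exact (wmul csC cvC (cvs ▸ hvsC)).symm
  have t2 : t * t = 1 := by
    rw [ht, ← wmul cvC cvC (cv2.symm ▸ h1CV), cv2, wone h1CV]; simp [V1L]
  have s2 : s * s = 1 := by
    rw [hs, ← wmul csC csC (cs2.symm ▸ h1CV), cs2, wone h1CV]; simp [V1L]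
  have t1 : t ≠ 1 := fun e => nv ((wone cvC).1 e)
  have s1 : s ≠ 1 := fun e => ns ((wone csC).1 e)
  have ts1 : t * s ≠ 1 := fun e => nvs ((wone hvsC).1 (ets ▸ e))
  have st : s ≠ t := fun e => ts1 (by rw [e, t2])
  have cent : ∀ x, x * t = t * x → x = 1 ∨ x = t ∨ x = s ∨ x = t * s := by
    intro x hx
    obtain ⟨k, rfl⟩ := QuotientGroup.mk'_surjective V x
    obtain ⟨u, hu, e⟩ := (hq _ _).1 (show q (w pv * k) = q (k * w pv) by
      rw [map_mul, map_mul]; exact hx.symm)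
    rw [Subgroup.coe_mul, Subgroup.coe_mul, hw cvC] at e
    have hkc := H.V0_central k.2 (show im Φ u ∈ V0 Φ from ⟨u, hu, rfl⟩)
    have e' : (k : G) * im Φ pv * (k : G)⁻¹ = im Φ (pv * u) := by
      rw [im_mul Φ std_even.2.2.2.1 (cv_sign (v1_CV u hu)), e, mul_assoc (im Φ pv), hkc]; group
    have hu1 : u = 1 := by
      by_contra hne
      have hsu : sign (pv * u) = 1 := by rw [map_mul, std_even.2.2.2.1, cv_sign (v1_CV u hu), one_mul]
      refine H.not_K (y := E pv) (by rw [E_coe std_even.2.2.2.1]; exact std_types.2.2.2.2.2.2.1) ?_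
      have hK : IsConj (im Φ pz) (im Φ (pv * u)) :=
        K_of (y := E (pv * u)) (by rw [E_coe hsu]; exact v1_not_K u hu hne)
      rw [← e'] at hK
      exact hK.trans (isConj_iff.2 ⟨(k : G), rfl⟩).symm
    rw [hu1, mul_one] at e'
    have hkv : (k : G) * im Φ pv = im Φ pv * k := mul_inv_eq_iff_eq_mul.1 e'
    have hka : (k : G) * im Φ pa = im Φ pa * k := Subgroup.mem_centralizer_singleton_iff.1 k.2.1
    have hkr : (k : G) ∈ Φ.range := H.cent _ (by
      show (k : G) * im Φ pz = im Φ pz * k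
      rw [im_mul Φ std_even.1 std_even.2.2.2.1, ← mul_assoc, hka, mul_assoc, hkv, mul_assoc])
    obtain ⟨y, hy, hky⟩ := H.mem_WW_range.1 ⟨k.2, hkr⟩
    have hk' : k = w y := Subtype.ext (hky.trans (hw hy).symm)
    have hyv : y * pv = pv * y := (H.comm_iff (cv_sign hy) std_even.2.2.2.1).1 (hky ▸ hkv)
    rw [hk']
    have hmul : ∀ {r u' : P8}, r ∈ CV → u' ∈ V1L → y = r * u' → q (w y) = q (w r) := fun hr hu' ey => by
      refine ((hq _ _).2 ⟨_, hu', ?_⟩).symm
      rw [hw hy, hw hr, ey, im_mul Φ (cv_sign hr) (cv_sign (v1_CV _ hu'))]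
    obtain ⟨u', hu', h | h | h | h⟩ := four_mod y hy hyv
    · left; rw [hmul h1CV hu' (by rw [h, one_mul]), wone h1CV]; simp [V1L]
    · right; left; exact hmul cvC hu' h
    · right; right; left; exact hmul csC hu' h
    · right; right; right; rw [ets]; exact hmul hvsC hu' h
  have hst : s * t = t * s := est.trans ets.symm
  have Kmem : ∀ x, x ∈ Subgroup.zpowers t ↔ x = 1 ∨ x = t := fun x => by
    refine ⟨fun h => ?_, fun h => by rcases h with rfl | rfl; exacts [one_mem _, Subgroup.mem_zpowers _]⟩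
    obtain ⟨i, rfl⟩ := Subgroup.mem_zpowers_iff.1 h
    have h2 : t ^ (2 : ℤ) = 1 := by rw [zpow_two, t2]
    rcases Int.even_or_odd' i with ⟨m, rfl | rfl⟩
    · left; rw [zpow_mul, h2, one_zpow]
    · right; rw [zpow_add, zpow_mul, h2, one_zpow, one_mul, zpow_one]
  have cenmem : ∀ x, x ∈ BSW.cen t ↔ x = 1 ∨ x = t ∨ x = s ∨ x = t * s := fun x => by
    refine ⟨fun h => cent x (BSW.mem_cen.1 h), fun h => BSW.mem_cen.2 ?_⟩
    rcases h with rfl | rfl | rfl | rfl
    · simp
    · rfl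
    · exact hst
    · rw [mul_assoc, hst]
  have hcard4 : Nat.card (BSW.cen t) = 4 := by
    have hc : ((BSW.cen t : Subgroup (↥(WW Φ) ⧸ V)) : Set (↥(WW Φ) ⧸ V)) = {1, t, s, t * s} := by
      ext x; simpa using cenmem x
    rw [← SetLike.coe_sort_coe, hc, Nat.card_coe_set_eq, Set.ncard_insert_of_notMem, Set.ncard_insert_of_notMem,
      Set.ncard_pair]
    · exact fun e => t1 (mul_eq_right.1 e.symm)
    · simp only [Set.mem_insert_iff, Set.mem_singleton_iff, not_or]
      exact ⟨st.symm, fun e => s1 (mul_eq_left.1 e.symm)⟩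
    · simp only [Set.mem_insert_iff, Set.mem_singleton_iff, not_or]
      exact ⟨t1.symm, s1.symm, ts1.symm⟩
  have hWbar : 8 * Nat.card (↥(WW Φ) ⧸ V) = Nat.card (DA Φ) := by
    have hV0 : Nat.card (V0 Φ) = 4 := H.card_list _ V1L (fun y hy => (List.mem_filter.1 (v1_CV y hy)).1)
      (by decide +kernel) fun g => Iff.rfl
    have hle : V0 Φ ≤ WW Φ := by
      rintro _ ⟨p, hp, rfl⟩; exact H.mem_WW (v1_CV p hp)
    rw [H.index_two, ← Subgroup.card_mul_index V, hV,
      Nat.card_congr (Subgroup.subgroupOfEquivOfLe hle).toEquiv, hV0, Subgroup.index_eq_card]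
    ring
  obtain ⟨P, hP⟩ := IsPGroup.exists_le_sylow (p := 2) (P := BSW.cen t) (IsPGroup.of_card (n := 2) hcard4)
  have hPe : (P : Subgroup _) = BSW.cen t := by
    refine (Subgroup.eq_of_le_of_card_ge hP ?_).symm
    rw [hcard4]
    obtain ⟨n, hn⟩ := IsPGroup.iff_card.1 P.isPGroup'
    rw [hn]
    by_contra hlt
    have h3 : 3 ≤ n := by
      by_contra h2
      exact hlt (le_of_le_of_eq (Nat.pow_le_pow_right (by norm_num) (show n ≤ 2 by omega)) (by norm_num))
    refine H.two_part.2 ?_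
    rw [← hWbar, show (64 : ℕ) = 8 * 2 ^ 3 by norm_num]
    have hd := Subgroup.card_subgroup_dvd_card (P : Subgroup (↥(WW Φ) ⧸ V))
    rw [hn] at hd
    exact Nat.mul_dvd_mul_left 8 ((pow_dvd_pow 2 h3).trans hd)
  have hconj4 : ∀ x ∈ BSW.cen t, x ≠ 1 → IsConj t x := by
    have hp2 : pp * pp ∈ CV := reps_spec.2.2 _ (by decide +kernel)
    have step : ∀ {y y' : P8}, y ∈ CV → y' ∈ CV → pp * y * pp⁻¹ = y' → IsConj (q (w y)) (q (w y')) := by
      intro y y' hy hy' e
      refine isConj_iff.2 ⟨q (w pp), ?_⟩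
      rw [← map_inv, ← map_mul, ← map_mul]
      congr 1
      apply Subtype.ext
      rw [Subgroup.coe_mul, Subgroup.coe_mul, Subgroup.coe_inv, hw cppC, hw hy, hw hy', ← e, ← im_inv Φ (cv_sign cppC),
        ← im_mul Φ (cv_sign cppC) (cv_sign hy),
        ← im_mul Φ (by rw [map_mul, cv_sign cppC, cv_sign hy, one_mul]) (by rw [map_inv, cv_sign cppC, inv_one])]
    simp only [List.mem_cons, List.not_mem_nil, or_false] at cpv cps cpvs
    have j1 : IsConj t s ∨ IsConj t (t * s) := cpv.imp (fun e => step cvC csC e) fun e => by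
      rw [ets]; exact step cvC hvsC e
    have j2 : IsConj s t ∨ IsConj s (t * s) := cps.imp (fun e => step csC cvC e) fun e => by
      rw [ets]; exact step csC hvsC e
    have j3 : IsConj (t * s) t ∨ IsConj (t * s) s := cpvs.imp (fun e => by rw [ets]; exact step hvsC cvC e)
      fun e => by rw [ets]; exact step hvsC csC e
    intro x hx hx1
    rcases (cenmem x).1 hx with rfl | rfl | rfl | rfl
    · exact (hx1 rfl).elim
    · exact IsConj.refl _
    · rcases j1 with a | a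
      · exact a
      · rcases j2 with b | b
        · exact b.symm
        · exact a.trans b.symm
    · rcases j1 with a | a
      · rcases j3 with b | b
        · exact b.symm
        · exact a.trans b.symm
      · exact a
  have hyp : BSW.Hyp t (Subgroup.zpowers t) s :=
    { invol_t := ⟨t1, t2⟩
      invol_s := ⟨s1, s2⟩
      comm := fun x hx y hy => by
        rcases (Kmem x).1 hx with rfl | rfl <;> rcases (Kmem y).1 hy with rfl | rfl <;> simp
      le_cen := fun x hx => BSW.mem_cen.2 (by rcases (Kmem x).1 hx with rfl | rfl <;> simp)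
      t_mem := Subgroup.mem_zpowers _
      s_mem := BSW.mem_cen.2 hst
      s_not_mem := fun h => by rcases (Kmem s).1 h with e | e; exacts [s1 e, st e]
      sup_eq := by
        refine le_antisymm (sup_le ?_ ?_) fun x hx => ?_
        · intro x hx; rw [cenmem]; rcases (Kmem x).1 hx with h | h <;> simp [h]
        · rw [Subgroup.zpowers_le, cenmem]; simp
        · have mt : t ∈ Subgroup.zpowers t ⊔ Subgroup.zpowers s :=
            Subgroup.mem_sup_left (Subgroup.mem_zpowers _)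
          have ms : s ∈ Subgroup.zpowers t ⊔ Subgroup.zpowers s :=
            Subgroup.mem_sup_right (Subgroup.mem_zpowers _)
          rcases (cenmem x).1 hx with rfl | rfl | rfl | rfl
          exacts [one_mem _, mt, ms, mul_mem mt ms]
      inf_eq := inf_eq_left.2 fun x hx => BSW.mem_cen.2 (by
        rcases (Kmem x).1 hx with rfl | rfl
        · simp
        · exact hst.symm)
      inverts := fun x hx => by
        rcases (Kmem x).1 hx with rfl | rfl
        · simp
        · rw [hst, mul_inv_cancel_right, inv_eq_of_mul_eq_one_right t2]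
      ti := fun g hg x hx hgx => by
        rcases (Kmem x).1 hx with rfl | rfl
        · rfl
        · rcases (Kmem _).1 hgx with e | e
          · exact conj_eq_one_iff.1 e
          · exact absurd (BSW.mem_cen.2 (mul_inv_eq_iff_eq_mul.1 e)) hg
      conj := by
        have key : ∀ x, BSW.IsInv x → IsConj t x := fun x hx => by
          obtain ⟨Q, hQ⟩ := IsPGroup.exists_le_sylow (p := 2) (P := Subgroup.zpowers x) (IsPGroup.of_card (n := 1)
            (by rw [Nat.card_zpowers, BSW.isInv_iff.1 hx, pow_one]))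
          obtain ⟨n, hn⟩ := CfsgLib.Invol.sylow_exists_conj P Q
          have h3 := (hn _).1 (hQ (Subgroup.mem_zpowers _))
          rw [hPe] at h3
          exact (hconj4 _ h3 (fun e => hx.1 (by
            calc x = n * (n⁻¹ * x * n) * n⁻¹ := by group
              _ = 1 := by rw [e]; group))).trans (isConj_iff.2 ⟨n, by group⟩)
        exact fun x y hx hy => (key x hx).symm.trans (key y hy) }
  haveI : Fintype (↥(WW Φ) ⧸ V) := Fintype.ofFinite _
  obtain ⟨o, Θ, η₁, η₂, j, C⟩ := BSW.core hyp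
  have hnn : BSW.nn (Subgroup.zpowers t) = 1 := by
    have h2 := BSW.two_mul_nn hyp
    rw [Nat.card_zpowers, orderOf_eq_prime (p := 2) (by rw [sq, t2]) t1] at h2
    omega
  have hm : BSW.mm (↥(WW Φ) ⧸ V) = 3 ∨ BSW.mm (↥(WW Φ) ⧸ V) = 15 := by
    have h := C.hm
    rw [BSW.FF, BSW.NN, hnn] at h
    rcases C.hj with rfl | rfl <;> norm_num at h
    · right; omega
    · left; omega
  have hD : Nat.card (DA Φ) = 32 * BSW.mm (↥(WW Φ) ⧸ V) := by
    rw [← hWbar, hyp.card_eq, hnn]; ring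
  rcases hm with hm | hm
  · exact Or.inl (by rw [hD, hm])
  · refine Or.inr ⟨by rw [hD, hm], ?_⟩
    by_contra hall
    push Not at hall
    -- all fifteen involutions would lie in twelve cosets
    let f : {x : ↥(WW Φ) ⧸ V // BSW.IsInv x} → (Reps.map fun r => q (w r)).toFinset := fun x => ⟨x.1, by
      obtain ⟨n, hn⟩ := isConj_iff.1 (hyp.conj t x.1 ⟨t1, t2⟩ x.2)
      obtain ⟨k, rfl⟩ := QuotientGroup.mk'_surjective V n
      rw [ht, ← map_inv, ← map_mul, ← map_mul] at hn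
      have hr : ((k * w pv * k⁻¹ : ↥(WW Φ)) : G) ∈ Φ.range := by
        have h := hall (k : G)⁻¹ (inv_mem k.2.1)
        rw [inv_inv] at h
        rwa [Subgroup.coe_mul, Subgroup.coe_mul, Subgroup.coe_inv, hw cvC]
      obtain ⟨y, hy, e⟩ := H.mem_WW_range.1 ⟨(k * w pv * k⁻¹).2, hr⟩
      obtain ⟨r, hr', u, hu, rfl⟩ := reps_spec.1 y hy
      refine List.mem_toFinset.2 (List.mem_map.2 ⟨r, hr', ?_⟩)
      rw [← hn, hq]
      exact ⟨u, hu, by rw [e, hw (reps_spec.2.2 r hr'),
        im_mul Φ (cv_sign (reps_spec.2.2 r hr')) (cv_sign (v1_CV u hu))]⟩⟩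
    have h := Nat.card_le_card_of_injective f fun a b e => Subtype.ext (congrArg Subtype.val e :)
    rw [Nat.card_eq_finsetCard] at h
    have h' := h.trans (List.toFinset_card_le _)
    rw [List.length_map, reps_spec.2.1] at h'
    unfold BSW.mm at hm
    omega

end CfsgLib.ExtraThirtyTwo.Eight.Alt
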