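import Mathlib

/-!
# Facts about permutations of eight points
-/

set_option autoImplicit false
set_option maxRecDepth 100000

namespace CfsgLib.ExtraThirtyTwo.Eight.Alt

open Equiv Equiv.Perm

attribute [local instance 5000] List.decidableBAll List.decidableBEx

abbrev P8 : Type := Perm (Fin 8)

abbrev pa : P8 := swap 0 1 * swap 2 3
abbrev pa1 : P8 := swap 0 2 * swap 1 3
abbrev pa2 : P8 := swap 0 3 * swap 1 2
abbrev pv : P8 := swap 4 5 * swap 6 7
abbrev ps : P8 := swap 4 6 * swap 5 7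
abbrev pz : P8 := pa * pv
abbrev pk1 : P8 := pa * ps
abbrev pk2 : P8 := pa * (swap 4 7 * swap 5 6)
abbrev pb : P8 := swap 0 1 * swap 4 5
abbrev pp : P8 := swap 4 5 * swap 5 6
abbrev pc2 : P8 := swap 0 1 * swap 1 2
abbrev pc3 : P8 := swap 0 1 * swap 1 3
abbrev pc4 : P8 := swap 0 1 * swap 1 4
abbrev phh : P8 := swap 2 4 * swap 3 5

/-- Products of three lists. -/
def prod3 (l m n : List P8) : List P8 := l.flatMap fun x => m.flatMap fun y => n.map fun z => x * y * z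

def dih : List P8 := prod3 [1, swap 0 1] [1, swap 2 3] [1, pa1]
def sym4 : List P8 := prod3 [1, swap 4 5, swap 4 6, swap 4 7] [1, swap 5 6, swap 5 7] [1, swap 6 7]

/-- The centralizer of `pa`. -/
def C192 : List P8 := dih.flatMap fun x => sym4.map fun y => x * y

/-- The even permutations among them. -/
def CA : List P8 := C192.filter fun y => sign y == 1

/-- The even permutations centralizing `pa` and `pa1`. -/
def CV : List P8 := CA.filter fun y => y * pa1 == pa1 * y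

/-- The four group on the first four points. -/
def V1L : List P8 := [1, pa, pa1, pa2]

/-- A fixed-point-free involution. -/
def Zt (y : P8) : Prop := (∀ i, y (y i) = i) ∧ ∀ i, y i ≠ i

/-- An involution with a fixed point. -/
def Dt (y : P8) : Prop := (∀ i, y (y i) = i) ∧ y ≠ 1 ∧ ∃ i, y i = i

instance : DecidablePred Zt := fun y => inferInstanceAs (Decidable (_ ∧ _))
instance : DecidablePred Dt := fun y => inferInstanceAs (Decidable (_ ∧ _))

theorem c192_nodup : C192.Nodup := by decide +kernel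
theorem c192_length : C192.length = 192 := by decide +kernel
theorem c192_comm : ∀ y ∈ C192, y * pa = pa * y := by decide +kernel
theorem ca_nodup : CA.Nodup := by decide +kernel
theorem ca_length : CA.length = 96 := by decide +kernel

theorem mem_CA {y : P8} (hy : y * pa = pa * y) (hs : sign y = 1) : y ∈ CA := by
  classical
  refine List.mem_filter.2 ⟨?_, by simp [hs]⟩
  have hc : Nat.card (Subgroup.centralizer ({pa} : Set P8)) = 192 := by
    rw [Equiv.Perm.nat_card_centralizer, show pa.cycleType = {2, 2} by decide +kernel]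
    decide +kernel
  let ι : C192.toFinset → Subgroup.centralizer ({pa} : Set P8) := fun w =>
    ⟨w.1, Subgroup.mem_centralizer_singleton_iff.2 (c192_comm _ (List.mem_toFinset.1 w.2))⟩
  have hι : Function.Bijective ι := (Nat.bijective_iff_injective_and_card ι).2
    ⟨fun w w' e => Subtype.ext (Subtype.ext_iff.1 e : _), by
      rw [Nat.card_eq_finsetCard, List.toFinset_card_of_nodup c192_nodup, c192_length, hc]⟩
  obtain ⟨w, hw⟩ := hι.2 ⟨y, Subgroup.mem_centralizer_singleton_iff.2 hy⟩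
  have e : w.1 = y := congrArg Subtype.val hw
  exact e ▸ List.mem_toFinset.1 w.2

theorem std_even : sign pa = 1 ∧ sign pa1 = 1 ∧ sign pa2 = 1 ∧ sign pv = 1 ∧ sign ps = 1 ∧ sign pz = 1 ∧
    sign pk1 = 1 ∧ sign pk2 = 1 ∧ sign pb = 1 ∧ sign pp = 1 ∧ sign pc2 = 1 ∧ sign pc3 = 1 ∧
    sign pc4 = 1 ∧ sign phh = 1 := by
  decide +kernel

theorem std_types : Zt pz ∧ Zt pk1 ∧ Zt pk2 ∧ Dt pa ∧ Dt pa1 ∧ Dt pa2 ∧ Dt pv ∧ Dt pb := by decide +kernel

/-- Normalizing the Sylow two-subgroup of the centralizer. -/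
theorem syl_self : ∀ y ∈ CA, (∀ p ∈ CA, p * pv = pv * p → (y * p * y⁻¹) * pv = pv * (y * p * y⁻¹)) →
    y * pv = pv * y := by
  decide +kernel

theorem syl_card : (CA.filter fun y => y * pv == pv * y).length = 32 := by decide +kernel
theorem cb_card : (CA.filter fun y => y * pb == pb * y).length = 8 := by decide +kernel
theorem cv_card : CV.length = 48 := by decide +kernel

/-- The candidates for conjugates of `pa1`. -/
theorem candidates : ∀ y ∈ CA, Dt y → y ≠ pa →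
    Zt (pa * y) ∨ y = pa1 ∨ y = pa2 ∨ ∃ k ∈ CA, k * pb * k⁻¹ = y := by
  decide +kernel

/-- Representatives modulo the first four group. -/
def Reps : List P8 := [1, pv, ps, pv * ps].flatMap fun x => [1, pp, pp * pp].map fun y => x * y

theorem reps_spec : (∀ y ∈ CV, ∃ r ∈ Reps, ∃ u ∈ V1L, y = r * u) ∧ Reps.length = 12 ∧
    (∀ y ∈ Reps, y ∈ CV) := by decide +kernel

theorem v1_inv : ∀ p ∈ V1L, p⁻¹ = p := by decide +kernel

theorem ca_misc : (∀ y ∈ CA, sign y = 1) ∧ (∀ y ∈ CA, y * y * y = 1 → y ≠ 1 → y ≠ pa) ∧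
    pz * pv = pv * pz ∧ pz * pb = pb * pz ∧ ps ∈ CA ∧ pk1 ∈ CA ∧ pk2 ∈ CA ∧ pa ∈ CA := by
  decide +kernel

/-- An element of order three gives a commutator of order two. -/
theorem three_comm : ∀ y ∈ CA, y * y * y = 1 → y ≠ 1 →
    (y * ps * y⁻¹ * ps⁻¹) * (y * ps * y⁻¹ * ps⁻¹) = 1 ∧ y * ps * y⁻¹ * ps⁻¹ ≠ 1 ∧
      y * ps * y⁻¹ * ps⁻¹ ≠ pa := by
  decide +kernel

theorem swap_pair : pb * pa1 * pb⁻¹ = pa2 ∧ pb * pa2 * pb⁻¹ = pa1 ∧ pa * pa1 = pa2 ∧ pa * pa2 = pa1 ∧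
    pk1 * pk2 = pv ∧ pv = pa * pz ∧ pb ∈ CA ∧ pz ∈ CA ∧ pv ∈ CA ∧ pa1 ∈ CA ∧ pa2 ∈ CA := by
  decide +kernel

theorem v1_mul : ∀ p ∈ V1L, ∀ q ∈ V1L, p * q ∈ V1L := by decide +kernel
theorem v1_CV : ∀ p ∈ V1L, p ∈ CV := by decide +kernel
theorem v1_central : ∀ y ∈ CV, ∀ p ∈ V1L, y * p = p * y := by decide +kernel
theorem v1_not_K : ∀ p ∈ V1L, p ≠ 1 → Zt (pv * p) := by decide +kernel

/-- Modulo the first four group, the centralizer of `pv` is a four group. -/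
theorem four_mod : ∀ y ∈ CV, y * pv = pv * y →
    ∃ u ∈ V1L, y = u ∨ y = pv * u ∨ y = ps * u ∨ y = pv * ps * u := by
  decide +kernel

theorem three_cycle_four : pp * pv * pp⁻¹ ∈ [ps, pv * ps] ∧ pp * ps * pp⁻¹ ∈ [pv, pv * ps] ∧
    pp ∈ CV ∧ pv ∈ CV ∧ ps ∈ CV ∧ pv * ps = ps * pv ∧ pp * pp * pp = 1 ∧ ps * ps = 1 ∧ pv * pv = 1 ∧
    pp * (pv * ps) * pp⁻¹ ∈ [pv, ps] := by
  decide +kernel

theorem four_not_v1 : pv ∉ V1L ∧ ps ∉ V1L ∧ pv * ps ∉ V1L ∧ pp ∉ V1L := by decide +kernel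

/-- Outside the first four group, some product with an element of it lies among the others. -/
theorem cv_generate : ∀ y ∈ CV, y ∉ V1L →
    ∃ u ∈ V1L, y * u ∈ [pv, ps, pv * ps] ∨ y * ps * y⁻¹ * ps⁻¹ * u ∈ [pv, ps, pv * ps] := by
  decide +kernel

/-- Elements commuting with the three cycle or inverting it. -/
theorem norm_pp : (∀ y ∈ [pc2, pc3, pb], y * pp * y⁻¹ = pp ∨ y * pp * y⁻¹ = pp * pp) ∧
    (∀ y ∈ [pc2, pc3, pb], y⁻¹ * pa * y ∈ V1L) ∧ pc2 * pv = pv * pc2 ∧ pc2 * ps = ps * pc2 ∧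
    phh * pa * phh⁻¹ = pb ∧ phh * pc2 * phh⁻¹ = pc4 := by
  decide +kernel

theorem fixed_seven : (∀ y ∈ [pp, pc2, pc3, pb, pc4, pa, pa1], y 7 = 7) ∧
    pv 7 = 6 ∧ ps 7 = 5 ∧ (pv * ps) 7 = 4 := by
  decide +kernel

/-- Facts on five points. -/
theorem five_three : ∀ f : Perm (Fin 5), f 0 = 0 → f * f * f = 1 → f ≠ 1 →
    ∃ i, i ≠ 0 ∧ f i = i ∧ ∀ j, j ≠ 0 → f j = j → j = i := by
  decide +kernel

theorem five_four : ∀ f : Perm (Fin 5), f 0 = 0 → f * f = 1 → ∀ g : Perm (Fin 5), g 0 = 0 → g * g = 1 →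
    f * g = g * f → ∀ i, i ≠ 0 → f i = i → g i = i → f = 1 ∨ g = 1 ∨ f = g := by
  decide +kernel

theorem five_cover : ∀ i j k l : Fin 5, i ≠ 0 → j ≠ 0 → k ≠ 0 → l ≠ 0 → i ≠ j → i ≠ k → i ≠ l → j ≠ k →
    j ≠ l → k ≠ l → ∀ m, m = 0 ∨ m = i ∨ m = j ∨ m = k ∨ m = l := by
  decide +kernel

theorem exists_other : ∀ j k : Fin 8, j ≠ 7 → k ≠ 7 → j ≠ k →
    ∃ l : Fin 8, l ≠ 7 ∧ l ≠ j ∧ l ≠ k ∧ (swap j k * swap k l) j = k ∧ (swap j k * swap k l) 7 = 7 := by
  decide +kernel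

end CfsgLib.ExtraThirtyTwo.Eight.Alt
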