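import Cfsg.Agent.Lib.ExtraThirtyTwo.Eight.Alt.Five

/-!
# Nine points
-/

set_option autoImplicit false
set_option maxRecDepth 100000

noncomputable section

namespace CfsgLib.ExtraThirtyTwo.Eight.Alt

open Equiv Equiv.Perm Subgroup

attribute [local instance 5000] List.decidableBAll List.decidableBEx

/-- A permutation moving `k` to `j` inside the first `j + 1` points. -/
def wL (j k : Fin 8) : P8 :=
  if k = j then 1
  else if k = 1 then swap 0 1 * swap 1 j
  else if k = 0 then (swap 0 1 * swap 1 j) * (swap 0 1 * swap 1 j)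
  else (swap 0 1 * swap 1 j) * (swap 0 1 * swap 1 j) * (swap 0 1 * swap 1 k)

theorem wL_spec : ∀ j : Fin 8, 2 ≤ j.val → j.val ≤ 6 → ∀ k : Fin 8, k.val ≤ j.val →
    wL j k k = j ∧ (∀ i : Fin 8, j < i → wL j k i = i) ∧ sign (wL j k) = 1 := by
  decide +kernel

theorem threes : pp * pc4 * pp⁻¹ = swap 0 1 * swap 1 5 ∧
    pp * pp * pc4 * (pp * pp)⁻¹ = swap 0 1 * swap 1 6 ∧
    (∀ k : Fin 8, sign (swap 0 1 * swap 1 k) = 1 ∨ k.val < 2) := by
  decide +kernel

theorem exists_move : (∀ k : Fin 8, k ≠ 7 → ∃ l : Fin 8, l ≠ 7 ∧ l ≠ k ∧ (swap 7 k * swap k l) 7 = k) ∧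
    sign (swap (0 : Fin 8) 1) = -1 := by
  decide +kernel

theorem gen_seven (S : Subgroup A8G) (h2 : E pc2 ∈ S) (h3 : E pc3 ∈ S) (h4 : E pc4 ∈ S) (hp : E pp ∈ S)
    (y : A8G) (hy : (y : P8) 7 = 7) : y ∈ S := by
  obtain ⟨e5, e6, hsg⟩ := threes
  have sp := std_even.2.2.2.2.2.2.2.2.2.1
  have s4 := std_even.2.2.2.2.2.2.2.2.2.2.2.2.1
  have sp2 : sign (pp * pp) = 1 := by rw [map_mul, sp, one_mul]
  have ht : ∀ k : Fin 8, 2 ≤ k.val → k.val ≤ 6 → E (swap 0 1 * swap 1 k) ∈ S := by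
    intro k hk hk'
    have hc : k = 2 ∨ k = 3 ∨ k = 4 ∨ k = 5 ∨ k = 6 := by omega
    rcases hc with rfl | rfl | rfl | rfl | rfl
    · exact h2
    · exact h3
    · exact h4
    · rw [← e5, E_conj sp s4]; exact mul_mem (mul_mem hp h4) (inv_mem hp)
    · rw [← e6, E_conj sp2 s4, E_mul sp sp]
      exact mul_mem (mul_mem (mul_mem hp hp) h4) (inv_mem (mul_mem hp hp))
  have hw : ∀ j : Fin 8, 2 ≤ j.val → j.val ≤ 6 → ∀ k : Fin 8, k.val ≤ j.val → E (wL j k) ∈ S := by
    intro j hj hj' k hk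
    have hsj := (hsg j).resolve_right (by omega)
    unfold wL
    split_ifs with c1 c2 c3
    · rw [E_one]; exact one_mem _
    · exact ht j hj hj'
    · rw [E_mul hsj hsj]; exact mul_mem (ht j hj hj') (ht j hj hj')
    · have hk2 : 2 ≤ k.val := by omega
      have hsk := (hsg k).resolve_right (by omega)
      rw [E_mul (by rw [map_mul, hsj, one_mul]) hsk, E_mul hsj hsj]
      exact mul_mem (mul_mem (ht j hj hj') (ht j hj hj')) (ht k hk2 (by omega))
  suffices key : ∀ n : ℕ, n ≤ 5 → ∀ g : A8G, (∀ i : Fin 8, n + 2 ≤ i.val → (g : P8) i = i) → g ∈ S by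
    refine key 5 le_rfl y fun i hi => ?_
    have : i = 7 := by omega
    rw [this, hy]
  intro n
  induction n with
  | zero =>
    intro _ g hg
    have hlt : ∀ i : Fin 8, i.val < 2 → ((g : P8) i).val < 2 := fun i hi => by
      by_contra hge
      have h := (g : P8).injective (hg ((g : P8) i) (by omega))
      rw [h] at hge
      omega
    have h0 := hlt 0 (by decide)
    have h1 := hlt 1 (by decide)
    have hne : (g : P8) 0 ≠ (g : P8) 1 := fun e => absurd ((g : P8).injective e) (by decide)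
    have hsign := mem_alternatingGroup.1 g.2
    have hg1 : (g : P8) = 1 ∨ (g : P8) = swap 0 1 := by
      have c0 : (g : P8) 0 = 0 ∨ (g : P8) 0 = 1 := by omega
      rcases c0 with c0 | c0
      · left
        have c1 : (g : P8) 1 = 1 := by omega
        refine Equiv.ext fun i => ?_
        by_cases hi : 2 ≤ i.val
        · rw [hg i hi, Equiv.Perm.one_apply]
        · have : i = 0 ∨ i = 1 := by omega
          rcases this with rfl | rfl <;> assumption
      · right
        have c1 : (g : P8) 1 = 0 := by omega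
        refine Equiv.ext fun i => ?_
        by_cases hi : 2 ≤ i.val
        · rw [hg i hi, Equiv.swap_apply_of_ne_of_ne (by omega) (by omega)]
        · have : i = 0 ∨ i = 1 := by omega
          rcases this with rfl | rfl
          · rw [c0, swap_apply_left]
          · rw [c1, swap_apply_right]
    rcases hg1 with e | e
    · rw [show g = 1 from Subtype.ext e]; exact one_mem _
    · rw [e, exists_move.2] at hsign
      exact absurd hsign (by decide)
  | succ n ih =>
    intro hn g hg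
    set j : Fin 8 := ⟨n + 2, by omega⟩ with hj
    have hk : ((g : P8) j).val ≤ j.val := by
      by_contra hlt
      have h := (g : P8).injective (hg ((g : P8) j) (by have : j.val = n + 2 := rfl; omega))
      rw [h] at hlt
      exact lt_irrefl _ (not_le.1 hlt)
    have hjv : j.val = n + 2 := rfl
    obtain ⟨w1, w2, w3⟩ := wL_spec j (by omega) (by omega) _ hk
    have hm := hw j (by omega) (by omega) _ hk
    have := ih (by omega) (E (wL j ((g : P8) j)) * g) fun i hi => by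
      rw [Subgroup.coe_mul, E_coe w3, Equiv.Perm.mul_apply]
      by_cases he : i = j
      · rw [he]; exact w1
      · have hlt : j < i := by
          rcases lt_or_eq_of_le (show j.val ≤ i.val by omega) with h | h
          · exact h
          · exact absurd (Fin.ext h).symm he
        rw [hg i (by omega)]
        exact w2 i hlt
    have := mul_mem (inv_mem hm) this
    rwa [inv_mul_cancel_left] at this

theorem exists_to (k : Fin 8) : ∃ g : A8G, (g : P8) 7 = k := by
  by_cases hk : k = 7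
  · exact ⟨1, hk.symm⟩
  · obtain ⟨l, hl, hlk, e⟩ := exists_move.1 k hk
    exact ⟨⟨swap 7 k * swap k l, mem_alternatingGroup.2 (by
      rw [map_mul, sign_swap (Ne.symm hk), sign_swap (Ne.symm hlk)]; decide)⟩, e⟩

theorem exists_to_two {j k : Fin 8} (h : j ≠ k) : ∃ g : A8G, (g : P8) 7 = j ∧ (g : P8) 6 = k := by
  obtain ⟨g, hg⟩ := exists_to j
  set k' := (g : P8).symm k with hk'
  have hk7 : k' ≠ 7 := fun e => h (by rw [← hg, ← e, hk', Equiv.apply_symm_apply])
  by_cases h6 : k' = 6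
  · exact ⟨g, hg, by rw [← h6, hk', Equiv.apply_symm_apply]⟩
  · obtain ⟨l, -, -, hlk, e1, e2⟩ := exists_other 6 k' (by decide) hk7 (Ne.symm h6)
    refine ⟨g * ⟨swap 6 k' * swap k' l, mem_alternatingGroup.2 (by
      rw [map_mul, sign_swap (Ne.symm h6), sign_swap (Ne.symm hlk)]; decide)⟩, ?_, ?_⟩
    · show (g : P8) ((swap 6 k' * swap k' l) 7) = j
      rw [e2, hg]
    · show (g : P8) ((swap 6 k' * swap k' l) 6) = k
      rw [e1, hk', Equiv.apply_symm_apply]

variable {G : Type*} [Group G] [Finite G] {Φ : A8G →* G} (H : Hyp Φ) {x : Om Φ} (X : Seven Φ x)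
include H X

theorem Seven.fix_of_stable {y : P8} (hy : sign y = 1) (hn : y * pp * y⁻¹ = pp ∨ y * pp * y⁻¹ = pp * pp)
    (ha : y⁻¹ * pa * y ∈ V1L) : im Φ y • x = x := by
  have sp := std_even.2.2.2.2.2.2.2.2.2.1
  have hyi : sign y⁻¹ = 1 := by rw [map_inv, hy, inv_one]
  have h1 : im Φ pa • (im Φ y • x) = im Φ y • x := by
    rw [← mul_smul, show im Φ pa * im Φ y = im Φ y * im Φ (y⁻¹ * pa * y) by
      rw [← im_mul Φ std_even.1 hy, ← im_mul Φ hy (by simp [map_mul, hy, std_even.1])]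
      congr 1; group, mul_smul, H.V0_fixes ⟨_, ha, rfl⟩ X.fixA]
  have hp2 : pp * pp * (pp * pp) = pp := by
    rw [show pp * pp * (pp * pp) = pp * pp * pp * pp by group, three_cycle_four.2.2.2.2.2.2.1, one_mul]
  have h2 : im Φ pp • (im Φ y • x) = im Φ y • x := by
    have hpp : im Φ pp * im Φ y = im Φ y * im Φ pp ∨ im Φ pp * im Φ y = im Φ y * (im Φ pp * im Φ pp) := by
      rcases hn with e | e
      · left
        refine (im_comm Φ sp hy ?_)
        rw [← mul_inv_eq_iff_eq_mul.1 e]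
      · right
        rw [← im_mul Φ sp sp, ← im_mul Φ sp hy, ← im_mul Φ hy (by rw [map_mul, sp, one_mul])]
        congr 1
        calc pp * y = (pp * pp) * (pp * pp) * y := by rw [hp2]
          _ = (y * pp * y⁻¹) * (y * pp * y⁻¹) * y := by rw [e]
          _ = _ := by group
    rw [← mul_smul]
    rcases hpp with e | e
    · rw [e, mul_smul, X.fixP]
    · rw [e, mul_smul, mul_smul, X.fixP, X.fixP]
  refine (X.uniq _ h1 h2).resolve_left fun e => X.ne ?_
  rw [smul_eq_iff_eq_inv_smul] at e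
  rw [e, ← im_inv Φ hy, im_fix]

theorem Seven.c2_all {w : Om Φ} (hw : im Φ pa • w = w) : im Φ pc2 • w = w := by
  obtain ⟨hn, ha, c2v, c2s, -, -⟩ := norm_pp
  have hc := std_even.2.2.2.2.2.2.2.2.2.2.1
  have h2x := X.fix_of_stable H hc (hn _ (by simp)) (ha _ (by simp))
  have sv := std_even.2.2.2.1
  have ss := std_even.2.2.2.2.1
  have key : ∀ y : P8, sign y = 1 → pc2 * y = y * pc2 → im Φ pc2 • (im Φ y • x) = im Φ y • x := fun y hy e => by
    rw [← mul_smul, im_comm Φ hc hy e, mul_smul, h2x]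
  rcases X.cover w hw with rfl | rfl | rfl | rfl | rfl
  · exact im_fix Φ _
  · exact h2x
  · exact key _ sv c2v
  · exact key _ ss c2s
  · exact key _ (by rw [map_mul, sv, ss, one_mul]) (Commute.mul_right (show Commute pc2 pv from c2v) c2s).eq

theorem Seven.stab {y : A8G} : Φ y • x = x ↔ (y : P8) 7 = 7 := by
  obtain ⟨hn, ha, c2v, c2s, hha, hhc⟩ := norm_pp
  let S : Subgroup A8G := (MulAction.stabilizer G x).comap Φ
  have hS : ∀ {g : A8G}, g ∈ S ↔ Φ g • x = x := Iff.rfl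
  have hbs := std_even.2.2.2.2.2.2.2.2.1
  have sh := std_even.2.2.2.2.2.2.2.2.2.2.2.2.2
  have m2 : E pc2 ∈ S := X.fix_of_stable H std_even.2.2.2.2.2.2.2.2.2.2.1 (hn _ (by simp)) (ha _ (by simp))
  have m3 : E pc3 ∈ S := X.fix_of_stable H std_even.2.2.2.2.2.2.2.2.2.2.2.1 (hn _ (by simp)) (ha _ (by simp))
  have hb : im Φ pb • x = x := X.fix_of_stable H hbs (hn _ (by simp)) (ha _ (by simp))
  have m4 : E pc4 ∈ S := by
    rw [hS]
    have hfix : im Φ pa • ((im Φ phh)⁻¹ • x) = (im Φ phh)⁻¹ • x := by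
      rw [eq_inv_smul_iff, ← mul_smul, ← mul_smul]
      rwa [show im Φ phh * im Φ pa * (im Φ phh)⁻¹ = im Φ pb from ?_]
      rw [← hha]
      exact ((congrArg Φ (E_conj (p := phh) (q := pa) sh std_even.1)).trans (by
        rw [map_mul, map_mul, map_inv])).symm
    have h := X.c2_all H hfix
    rw [eq_inv_smul_iff, ← mul_smul, ← mul_smul] at h
    show im Φ pc4 • x = x
    rw [← hhc]
    show Φ (E (phh * pc2 * phh⁻¹)) • x = x
    rw [E_conj (p := phh) (q := pc2) sh std_even.2.2.2.2.2.2.2.2.2.2.1, map_mul, map_mul, map_inv]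
    convert h using 2
  have hsub : ∀ g : A8G, (g : P8) 7 = 7 → g ∈ S := gen_seven S m2 m3 m4 X.fixP
  refine ⟨fun hy => ?_, hsub y⟩
  by_contra hne
  have htop : ∀ g : A8G, g ∈ S := fun g => by
    by_cases hg : (g : P8) 7 = 7
    · exact hsub g hg
    obtain ⟨c, c7, hc⟩ : ∃ c : A8G, (c : P8) 7 = 7 ∧ (c : P8) ((y : P8) 7) = (g : P8) 7 := by
      by_cases he : (y : P8) 7 = (g : P8) 7
      · exact ⟨1, rfl, he⟩
      obtain ⟨l, -, -, hlk, e1, e2⟩ := exists_other _ _ hne hg he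
      exact ⟨⟨swap ((y : P8) 7) ((g : P8) 7) * swap ((g : P8) 7) l, mem_alternatingGroup.2 (by
        rw [map_mul, sign_swap he, sign_swap (Ne.symm hlk)]; decide)⟩, e2, e1⟩
    have h := hsub ((c * y)⁻¹ * g) (by
      rw [Subgroup.coe_mul, Subgroup.coe_inv, Equiv.Perm.mul_apply, Equiv.Perm.inv_def, Equiv.symm_apply_eq,
        Subgroup.coe_mul, Equiv.Perm.mul_apply, hc])
    have h' := mul_mem (mul_mem (hsub c c7) (hS.2 hy)) h
    rwa [mul_inv_cancel_left] at h'
  obtain ⟨g, rfl⟩ := exists_rep Φ x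
  refine X.ne ?_
  have h := (fix_iff Φ _ _).1 (hS.1 (htop (E pz)))
  have hg : g⁻¹ ∈ Φ.range := H.trans_K (y := E pz) (by rw [E_coe std_even.2.2.2.2.2.1]; exact std_types.1)
    (by rw [inv_inv]; exact h)
  rw [(fix_b0 Φ g).2 (inv_mem_iff.1 hg)]

omit H in
/-- The neighbour of the base point with a given label. -/
def nb (_ : Seven Φ x) (k : Fin 8) : Om Φ := Φ (Classical.choose (exists_to k)) • x

theorem Seven.nb_eq (y : A8G) : Φ y • x = nb X ((y : P8) 7) := by
  rw [nb, eq_comm, eq_comm]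
  set g := Classical.choose (exists_to ((y : P8) 7))
  have hg : (g : P8) 7 = (y : P8) 7 := Classical.choose_spec (exists_to _)
  have h := (X.stab H (y := g⁻¹ * y)).2 (by
    rw [Subgroup.coe_mul, Subgroup.coe_inv, Equiv.Perm.mul_apply, ← hg]
    exact Equiv.symm_apply_apply _ _)
  rw [map_mul, map_inv, mul_smul, inv_smul_eq_iff] at h
  exact h

theorem Seven.smul_nb (y : A8G) (k : Fin 8) : Φ y • nb X k = nb X ((y : P8) k) := by
  obtain ⟨g, rfl⟩ := exists_to k
  rw [← X.nb_eq H g, ← mul_smul, ← map_mul, X.nb_eq H, Subgroup.coe_mul, Equiv.Perm.mul_apply]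

theorem Seven.nb_inj : Function.Injective (nb X) := fun j k e => by
  obtain ⟨g, rfl⟩ := exists_to j
  obtain ⟨h, rfl⟩ := exists_to k
  rw [← X.nb_eq H, ← X.nb_eq H, ← inv_smul_eq_iff, ← map_inv, ← mul_smul, ← map_mul, X.stab H,
    Subgroup.coe_mul, Equiv.Perm.mul_apply, Subgroup.coe_inv, Equiv.Perm.inv_def, Equiv.symm_apply_eq] at e
  exact e

theorem Seven.nb_ne (k : Fin 8) : nb X k ≠ b0 Φ := fun e => by
  obtain ⟨g, rfl⟩ := exists_to k
  rw [← X.nb_eq H, ← eq_inv_smul_iff, ← map_inv] at e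
  exact X.ne (e.trans ((fix_b0 Φ _).2 ⟨_, rfl⟩))

theorem Seven.fixed_nb {w : Om Φ} (hw : im Φ pa • w = w) : w = b0 Φ ∨ ∃ k, w = nb X k := by
  rcases X.cover w hw with h | h | h | h | h
  · exact Or.inl h
  · exact Or.inr ⟨7, h.trans ((show x = Φ 1 • x by rw [map_one, one_smul]).trans (X.nb_eq H 1))⟩
  all_goals exact Or.inr ⟨_, h.trans (X.nb_eq H _)⟩

omit H X in
/-- Two points fixed by one double transposition. -/
def Adj (Φ : A8G →* G) (w w' : Om Φ) : Prop :=
  w ≠ w' ∧ ∃ g : G, im Φ pa • (g⁻¹ • w) = g⁻¹ • w ∧ im Φ pa • (g⁻¹ • w') = g⁻¹ • w'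

omit [Finite G] H X in
theorem Adj.smul {w w' : Om Φ} (h : Adj Φ w w') (g : G) : Adj Φ (g • w) (g • w') := by
  obtain ⟨hne, k, h1, h2⟩ := h
  exact ⟨fun e => hne (smul_left_cancel g e), g * k, by rwa [mul_inv_rev, mul_smul, inv_smul_smul],
    by rwa [mul_inv_rev, mul_smul, inv_smul_smul]⟩

theorem Seven.adj_b0 {w : Om Φ} (h : Adj Φ (b0 Φ) w) : ∃ k, w = nb X k := by
  obtain ⟨hne, g, h1, h2⟩ := h
  obtain ⟨d, hd, hd0⟩ := H.fixed_orbit.1 h1
  obtain ⟨c, hc⟩ : g * d ∈ Φ.range := by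
    rw [← fix_b0, mul_smul, ← hd0, smul_inv_smul]
  have h3 : im Φ pa • ((Φ c)⁻¹ • w) = (Φ c)⁻¹ • w := by
    rw [hc, mul_inv_rev, mul_smul]
    exact H.D_preserves (inv_mem hd) h2
  rcases X.fixed_nb H h3 with e | ⟨k, e⟩
  · rw [inv_smul_eq_iff, (fix_b0 Φ _).2 ⟨c, rfl⟩] at e
    exact (hne e.symm).elim
  · rw [inv_smul_eq_iff, X.smul_nb H] at e
    exact ⟨_, e⟩

theorem Seven.nb_fixed : (∀ k : Fin 8, k = 6 ∨ k = 7 → im Φ pa • nb X k = nb X k) := by
  intro k hk
  rw [show im Φ pa • nb X k = Φ (E pa) • nb X k from rfl, X.smul_nb H, E_coe std_even.1]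
  rcases hk with rfl | rfl <;> congr 1

theorem Seven.adj_pairs {j k : Fin 8} (h : j ≠ k) : Adj Φ (nb X j) (nb X k) ∧ Adj Φ (b0 Φ) (nb X j) := by
  obtain ⟨g, rfl, rfl⟩ := exists_to_two h
  have e : ∀ i : Fin 8, Φ g • nb X i = nb X ((g : P8) i) := X.smul_nb H g
  constructor
  · refine ⟨fun h' => h (X.nb_inj H h'), Φ g, ?_, ?_⟩
    · rw [← e, inv_smul_smul]; exact X.nb_fixed H 7 (Or.inr rfl)
    · rw [← e, inv_smul_smul]; exact X.nb_fixed H 6 (Or.inl rfl)
  · refine ⟨(X.nb_ne H _).symm, Φ g, ?_, ?_⟩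
    · rw [← map_inv, (fix_b0 Φ _).2 ⟨g⁻¹, rfl⟩, im_fix]
    · rw [← e, inv_smul_smul]; exact X.nb_fixed H 7 (Or.inr rfl)

theorem Seven.closed {j : Fin 8} {w : Om Φ} (hw : Adj Φ (nb X j) w) : w = b0 Φ ∨ ∃ k, w = nb X k := by
  classical
  obtain ⟨h, hh⟩ := exists_rep Φ (nb X j)
  let f : Fin 8 → Om Φ := fun k => h • nb X k
  have hsub : ∀ w', Adj Φ (nb X j) w' → w' ∈ Finset.univ.image f := by
    intro w' hw'
    have := hw'.smul h⁻¹
    rw [hh, inv_smul_smul] at this
    obtain ⟨k, hk⟩ := X.adj_b0 H this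
    exact Finset.mem_image.2 ⟨k, Finset.mem_univ _, by show h • nb X k = w'; rw [← hk, smul_inv_smul]⟩
  let T : Finset (Om Φ) := insert (b0 Φ) ((Finset.univ.erase j).image (nb X))
  have hT : T = Finset.univ.image f := by
    refine Finset.eq_of_subset_of_card_le (fun v hv => hsub v ?_) ?_
    · simp only [T, Finset.mem_insert, Finset.mem_image, Finset.mem_erase, Finset.mem_univ, and_true] at hv
      obtain ⟨k0, hk0⟩ := exists_ne j
      rcases hv with rfl | ⟨k, hk, rfl⟩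
      · obtain ⟨hne, g, g1, g2⟩ := (X.adj_pairs H hk0.symm).2
        exact ⟨hne.symm, g, g2, g1⟩
      · exact (X.adj_pairs H (Ne.symm hk)).1
    · rw [Finset.card_insert_of_notMem (fun hm => by
          obtain ⟨k, -, hk⟩ := Finset.mem_image.1 hm
          exact X.nb_ne H k hk),
        Finset.card_image_of_injective _ (X.nb_inj H), Finset.card_erase_of_mem (Finset.mem_univ j)]
      refine Finset.card_image_le.trans ?_
      simp
  have := hsub w hw
  rw [← hT] at this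
  simp only [T, Finset.mem_insert, Finset.mem_image, Finset.mem_erase, Finset.mem_univ, and_true] at this
  rcases this with e | ⟨k, -, e⟩
  · exact Or.inl e
  · exact Or.inr ⟨k, e.symm⟩

theorem Seven.all_nine (h5 : Nat.card {w : Om Φ // im Φ pa • w = w} = 5) (w : Om Φ) :
    w = b0 Φ ∨ ∃ k, w = nb X k := by
  classical
  obtain ⟨g, rfl⟩ := exists_rep Φ w
  set t := g * im Φ pa * g⁻¹ with ht
  obtain ⟨ha2, ha1, -, -, -, -, -, -, -, -⟩ := H.basic
  have hzs := std_even.2.2.2.2.2.1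
  have hz2 : orderOf (im Φ pz) = 2 := orderOf_eq_prime (by
    rw [sq, ← im_mul Φ hzs hzs, show pz * pz = 1 from Equiv.ext std_types.1.1, im_one])
    (fun e => absurd (H.im_inj hzs (map_one _) (e.trans (im_one Φ).symm)) (by decide +kernel))
  have ht2 : orderOf t = 2 := (orderOf_eq_prime (by
    rw [sq, ht, show g * im Φ pa * g⁻¹ * (g * im Φ pa * g⁻¹) = g * (im Φ pa * im Φ pa) * g⁻¹ by group, ha2]
    group) (fun e => ha1 (conj_eq_one_iff.1 e)))
  obtain ⟨i, hi2, hiz, hit, -⟩ := CfsgLib.Invol.exists_common_involution hz2 ht2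
    (fun hc => H.hne (hc.trans (isConj_iff.2 ⟨g, rfl⟩).symm))
  obtain ⟨y, hy⟩ := H.cent i hiz.eq
  have hy2 : y * y = 1 := H.inj (by rw [map_mul, hy, map_one, ← sq, ← hi2, pow_orderOf_eq_one])
  have hy1 : y ≠ 1 := fun e => by
    rw [e, map_one] at hy
    rw [← hy, orderOf_one] at hi2
    omega
  -- a fixed point of the common involution among the five
  set d := g⁻¹ * i * g with hd
  have hdD : d ∈ DA Φ := Subgroup.mem_centralizer_singleton_iff.2 (by
    calc d * im Φ pa = g⁻¹ * (i * t) * g := by rw [hd, ht]; group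
      _ = g⁻¹ * (t * i) * g := by rw [hit.eq]
      _ = _ := by rw [hd, ht]; group)
  let F := {w : Om Φ // im Φ pa • w = w}
  haveI : Finite F := Nat.finite_of_card_ne_zero (by rw [h5]; norm_num)
  haveI := Fintype.ofFinite F
  let dp : Equiv.Perm F :=
    { toFun := fun v => ⟨d • v.1, H.D_preserves hdD v.2⟩
      invFun := fun v => ⟨d⁻¹ • v.1, H.D_preserves (inv_mem hdD) v.2⟩
      left_inv := fun v => Subtype.ext (inv_smul_smul _ _)
      right_inv := fun v => Subtype.ext (smul_inv_smul _ _) }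
  have hdd : d * d = 1 := by
    rw [hd, show g⁻¹ * i * g * (g⁻¹ * i * g) = g⁻¹ * i ^ 2 * g by rw [sq]; group, ← hi2, pow_orderOf_eq_one]
    group
  haveI : Fact (Nat.Prime 2) := ⟨Nat.prime_two⟩
  obtain ⟨v, hv⟩ := Equiv.Perm.exists_fixed_point_of_prime (p := 2) (n := 1) (σ := dp)
    (by rw [← Nat.card_eq_fintype_card, h5]; decide)
    (Equiv.ext fun v => Subtype.ext (by
      show d • d • v.1 = v.1
      rw [← mul_smul, hdd, one_smul]))
  have hiv : i • (g • v.1) = g • v.1 := by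
    have h := congrArg Subtype.val hv
    change d • v.1 = v.1 at h
    rw [hd, mul_smul, mul_smul, inv_smul_eq_iff] at h
    exact h
  have hv' : g • v.1 = b0 Φ ∨ ∃ k, g • v.1 = nb X k := by
    rcases invol_cases hy2 hy1 with hz | hdt
    · left
      obtain ⟨h, hh⟩ := exists_rep Φ (g • v.1)
      rw [hh, fix_iff, ← hy] at hiv
      have := H.trans_K hz (g := h⁻¹) (by rwa [inv_inv])
      rw [hh, (fix_b0 Φ h).2 (inv_mem_iff.1 this)]
    · obtain ⟨c, hc⟩ := conj_A (Φ := Φ) hdt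
      have h3 : im Φ pa • ((Φ c)⁻¹ • (g • v.1)) = (Φ c)⁻¹ • (g • v.1) := by
        rw [← hy, ← hc, mul_smul, mul_smul, ← eq_inv_smul_iff] at hiv
        exact hiv
      rcases X.fixed_nb H h3 with e | ⟨k, e⟩
      · left; rw [inv_smul_eq_iff, (fix_b0 Φ _).2 ⟨c, rfl⟩] at e; exact e
      · right; rw [inv_smul_eq_iff, X.smul_nb H] at e; exact ⟨_, e⟩
  have hgb : im Φ pa • (g⁻¹ • (g • b0 Φ)) = g⁻¹ • (g • b0 Φ) := by rw [inv_smul_smul, im_fix]
  by_cases he : g • v.1 = g • b0 Φ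
  · rwa [he] at hv'
  have hadj : Adj Φ (g • v.1) (g • b0 Φ) := ⟨he, g, by rw [inv_smul_smul]; exact v.2, hgb⟩
  rcases hv' with e | ⟨k, e⟩
  · rw [e] at hadj
    exact Or.inr (X.adj_b0 H hadj)
  · rw [e] at hadj
    exact X.closed H hadj

end CfsgLib.ExtraThirtyTwo.Eight.Alt
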