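import Cfsg.Agent.Lib.ExtraThirtyTwo.Eight.Split
import Cfsg.Agent.Lib.ExtraThirtyTwo.Eight.Alt.Model

/-!
# An alternating subgroup holding a centralizer
-/

set_option autoImplicit false

noncomputable section

namespace CfsgLib.ExtraThirtyTwo.Eight.Alt

open Equiv Equiv.Perm

/-- An even permutation as an element of the alternating group. -/
def E (y : P8) : A8G := if h : sign y = 1 then ⟨y, mem_alternatingGroup.2 h⟩ else 1

theorem E_coe {y : P8} (h : sign y = 1) : (E y : P8) = y := by simp [E, h]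

theorem E_of (y : A8G) : E (y : P8) = y := by
  apply Subtype.ext; exact E_coe (mem_alternatingGroup.1 y.2)

theorem E_mul {p q : P8} (hp : sign p = 1) (hq : sign q = 1) : E (p * q) = E p * E q := by
  apply Subtype.ext
  rw [Subgroup.coe_mul, E_coe hp, E_coe hq, E_coe (by rw [map_mul, hp, hq, one_mul])]

theorem E_inv {p : P8} (hp : sign p = 1) : E p⁻¹ = (E p)⁻¹ := by
  apply Subtype.ext
  rw [Subgroup.coe_inv, E_coe hp, E_coe (by rw [map_inv, hp, inv_one])]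

theorem E_one : E 1 = 1 := by apply Subtype.ext; simp [E]

theorem E_inj {p q : P8} (hp : sign p = 1) (hq : sign q = 1) (h : E p = E q) : p = q := by
  rw [← E_coe hp, ← E_coe hq, h]

theorem E_conj {p q : P8} (hp : sign p = 1) (hq : sign q = 1) : E (p * q * p⁻¹) = E p * E q * (E p)⁻¹ := by
  rw [E_mul (by rw [map_mul, hp, hq, one_mul]) (by rw [map_inv, hp, inv_one]), E_mul hp hq, E_inv hp]

theorem sq_coe {y : A8G} (h : y * y = 1) : ∀ i, (y : P8) ((y : P8) i) = i := fun i =>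
  Equiv.congr_fun (congrArg Subtype.val h) i

theorem invol_cases {y : A8G} (h : y * y = 1) (h1 : y ≠ 1) : Zt (y : P8) ∨ Dt (y : P8) := by
  by_cases hf : ∀ i, (y : P8) i ≠ i
  · exact Or.inl ⟨sq_coe h, hf⟩
  · push Not at hf
    exact Or.inr ⟨sq_coe h, fun e => h1 (Subtype.ext e), hf⟩

theorem cycleType_invol {y : A8G} (h : ∀ i, (y : P8) ((y : P8) i) = i) (h1 : (y : P8) ≠ 1) :
    (Zt (y : P8) → (y : P8).cycleType = {2, 2, 2, 2}) ∧ (Dt (y : P8) → (y : P8).cycleType = {2, 2}) := by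
  have h2 : orderOf (y : P8) = 2 := orderOf_eq_prime (by rw [sq]; exact Equiv.ext h) h1
  obtain ⟨n, hn⟩ := Equiv.Perm.cycleType_prime_order (σ := (y : P8)) (by rw [h2]; exact Nat.prime_two)
  rw [h2] at hn
  have hs := Equiv.Perm.sum_cycleType (y : P8)
  have hsgn := Equiv.Perm.sign_of_cycleType (y : P8)
  rw [mem_alternatingGroup.1 y.2, hn, Multiset.sum_replicate, Multiset.card_replicate, smul_eq_mul] at hsgn
  rw [hn, Multiset.sum_replicate, smul_eq_mul] at hs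
  have hle : (y : P8).support.card ≤ 8 := by
    simpa using Finset.card_le_univ (y : P8).support
  have hev : Even (n + 1) := by
    by_contra ho
    rw [Nat.not_even_iff_odd] at ho
    rw [Odd.neg_one_pow (show Odd ((n + 1) * 2 + (n + 1)) by
      obtain ⟨k, hk⟩ := ho; exact ⟨3 * k + 1, by omega⟩)] at hsgn
    exact absurd hsgn (by decide)
  obtain ⟨k, hk⟩ := hev
  refine ⟨fun hz => ?_, fun hd => ?_⟩
  · have : (y : P8).support = Finset.univ := Finset.eq_univ_of_forall fun i => Equiv.Perm.mem_support.2 (hz.2 i)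
    rw [this, Finset.card_univ, Fintype.card_fin] at hs
    have hn' : n + 1 = 4 := by omega
    rw [hn, hn']; rfl
  · obtain ⟨i, hi⟩ := hd.2.2
    have : (y : P8).support.card < 8 := by
      simpa using Finset.card_lt_univ_of_notMem (s := (y : P8).support) (x := i)
        (fun hm => Equiv.Perm.mem_support.1 hm hi)
    have hn' : n + 1 = 2 := by omega
    rw [hn, hn']; rfl

theorem conj_std {t : P8} (ht : sign t = 1) (hc : swap 0 1 * t * swap 0 1 = t) {y : A8G}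
    (h : (y : P8).cycleType = t.cycleType) : ∃ c : A8G, c * E t * c⁻¹ = y := by
  obtain ⟨c, hy⟩ := isConj_iff.1 (Equiv.Perm.isConj_iff_cycleType_eq.2 h.symm)
  rcases Int.units_eq_one_or (sign c) with hs | hs
  · exact ⟨⟨c, mem_alternatingGroup.2 hs⟩, Subtype.ext (by
      rw [Subgroup.coe_mul, Subgroup.coe_mul, Subgroup.coe_inv, E_coe ht]; exact hy)⟩
  · refine ⟨⟨c * swap 0 1, mem_alternatingGroup.2 (by
      rw [map_mul, hs, sign_swap (by decide : (0 : Fin 8) ≠ 1)]; decide)⟩, Subtype.ext ?_⟩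
    rw [Subgroup.coe_mul, Subgroup.coe_mul, Subgroup.coe_inv, E_coe ht]
    show c * swap 0 1 * t * (c * swap 0 1)⁻¹ = _
    rw [show c * swap 0 1 * t * (c * swap 0 1)⁻¹ = c * (swap 0 1 * t * (swap 0 1)⁻¹) * c⁻¹ by group,
      swap_inv, hc, hy]

theorem std_cycle : pz.cycleType = {2, 2, 2, 2} ∧ pa.cycleType = {2, 2} ∧
    swap 0 1 * pz * swap 0 1 = pz ∧ swap 0 1 * pa * swap 0 1 = pa := by
  decide +kernel

theorem conj_pz {y : A8G} (h : Zt (y : P8)) : ∃ c : A8G, c * E pz * c⁻¹ = y :=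
  conj_std std_even.2.2.2.2.2.1 std_cycle.2.2.1 (((cycleType_invol h.1 fun e =>
    h.2 0 (by rw [e]; rfl)).1 h).trans std_cycle.1.symm)

theorem conj_pa {y : A8G} (h : Dt (y : P8)) : ∃ c : A8G, c * E pa * c⁻¹ = y :=
  conj_std std_even.1 std_cycle.2.2.2 (((cycleType_invol h.1 h.2.1).2 h).trans std_cycle.2.1.symm)

variable {G : Type*} [Group G]

/-- The hypotheses, with standard labels. -/
structure Hyp (Φ : A8G →* G) : Prop where
  inj : Function.Injective Φ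
  cent : ∀ g : G, g * Φ (E pz) = Φ (E pz) * g → g ∈ Φ.range
  hne : ¬ IsConj (Φ (E pz)) (Φ (E pa))

theorem exists_hyp (h : AltBranch G) : ∃ Φ : A8G →* G, Hyp Φ := by
  obtain ⟨Φ, z, d, hinj, hz, hd, hC, hne⟩ := h
  obtain ⟨c, rfl⟩ := conj_std std_even.2.2.2.2.2.1 std_cycle.2.2.1 (hz.trans std_cycle.1.symm)
  obtain ⟨c', rfl⟩ := conj_std std_even.1 std_cycle.2.2.2 (hd.trans std_cycle.2.1.symm)
  refine ⟨Φ, hinj, fun g hg => ?_, fun hc => hne ?_⟩
  · have h1 := hC (Φ c * g * (Φ c)⁻¹) (by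
      rw [map_mul, map_mul, map_inv]
      calc Φ c * g * (Φ c)⁻¹ * (Φ c * Φ (E pz) * (Φ c)⁻¹) = Φ c * (g * Φ (E pz)) * (Φ c)⁻¹ := by group
        _ = _ := by rw [hg]; group)
    have h2 := mul_mem (mul_mem (inv_mem (show Φ c ∈ Φ.range from ⟨c, rfl⟩)) h1)
      (show Φ c ∈ Φ.range from ⟨c, rfl⟩)
    rwa [show (Φ c)⁻¹ * (Φ c * g * (Φ c)⁻¹) * Φ c = g by group] at h2
  · simp only [map_mul, map_inv]
    exact ((isConj_iff.2 ⟨Φ c, rfl⟩).symm.trans hc).trans (isConj_iff.2 ⟨Φ c', rfl⟩)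

variable {Φ : A8G →* G} (H : Hyp Φ)
include H

theorem Hyp.im_inj {p q : P8} (hp : sign p = 1) (hq : sign q = 1) (h : Φ (E p) = Φ (E q)) : p = q :=
  E_inj hp hq (H.inj h)

omit H in
theorem K_of {y : A8G} (h : Zt (y : P8)) : IsConj (Φ (E pz)) (Φ y) := by
  obtain ⟨c, rfl⟩ := conj_pz h
  exact isConj_iff.2 ⟨Φ c, by simp only [map_mul, map_inv]⟩

omit H in
theorem conj_A {y : A8G} (h : Dt (y : P8)) : ∃ c : A8G, Φ c * Φ (E pa) * (Φ c)⁻¹ = Φ y := by
  obtain ⟨c, rfl⟩ := conj_pa h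
  exact ⟨c, by simp only [map_mul, map_inv]⟩

theorem Hyp.not_K {y : A8G} (h : Dt (y : P8)) : ¬ IsConj (Φ (E pz)) (Φ y) := fun hc => by
  obtain ⟨c, hc'⟩ := conj_A (Φ := Φ) h
  exact H.hne (hc.trans (isConj_iff.2 ⟨_, hc'⟩).symm)

theorem Hyp.zt_of_K {y : A8G} (h : IsConj (Φ (E pz)) (Φ y)) : Zt (y : P8) := by
  obtain ⟨g, hg⟩ := isConj_iff.1 h
  have hzz : E pz * E pz = 1 := by
    rw [← E_mul std_even.2.2.2.2.2.1 std_even.2.2.2.2.2.1, ← E_one]; congr 1; decide +kernel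
  have h2 : y * y = 1 := H.inj (by
    rw [map_mul, map_one, ← hg, show g * Φ (E pz) * g⁻¹ * (g * Φ (E pz) * g⁻¹) =
      g * Φ (E pz * E pz) * g⁻¹ by rw [map_mul]; group, hzz, map_one, mul_one, mul_inv_cancel])
  have h1 : y ≠ 1 := fun e => by
    rw [e, map_one] at hg
    have hz1 : E pz = 1 := H.inj ((conj_eq_one_iff.1 hg).trans (map_one Φ).symm)
    exact absurd (E_inj std_even.2.2.2.2.2.1 (map_one _) (hz1.trans E_one.symm)) (by decide +kernel)
  exact (invol_cases h2 h1).resolve_right fun hd => H.not_K hd h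

theorem Hyp.cent_K {y : A8G} (h : Zt (y : P8)) {g : G} (hg : g * Φ y = Φ y * g) : g ∈ Φ.range := by
  obtain ⟨c, rfl⟩ := conj_pz h
  have h1 := H.cent ((Φ c)⁻¹ * g * Φ c) (by
    simp only [map_mul, map_inv] at hg
    calc (Φ c)⁻¹ * g * Φ c * Φ (E pz) = (Φ c)⁻¹ * (g * (Φ c * Φ (E pz) * (Φ c)⁻¹)) * Φ c := by group
      _ = _ := by rw [hg]; group)
  have hc : Φ c ∈ Φ.range := ⟨c, rfl⟩
  have h2 := mul_mem (mul_mem hc h1) (inv_mem hc)
  rwa [show Φ c * ((Φ c)⁻¹ * g * Φ c) * (Φ c)⁻¹ = g by group] at h2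

theorem Hyp.trans_K {y : A8G} (h : Zt (y : P8)) {g : G} (hg : g * Φ y * g⁻¹ ∈ Φ.range) : g ∈ Φ.range := by
  obtain ⟨y', hy'⟩ := hg
  obtain ⟨c, hc⟩ := conj_pz (H.zt_of_K (hy' ▸ (K_of h).trans (isConj_iff.2 ⟨g, rfl⟩)))
  obtain ⟨c0, hc0⟩ := conj_pz h
  set k := (Φ c)⁻¹ * g * Φ c0
  have hk : k * Φ (E pz) = Φ (E pz) * k := by
    have e : g * (Φ c0 * Φ (E pz) * (Φ c0)⁻¹) * g⁻¹ = Φ c * Φ (E pz) * (Φ c)⁻¹ := by
      simp only [← map_inv, ← map_mul, hc, hc0]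
      skip
      exact hy'.symm
    calc k * Φ (E pz) = (Φ c)⁻¹ * (g * (Φ c0 * Φ (E pz) * (Φ c0)⁻¹) * g⁻¹) * (g * Φ c0) := by
          simp only [k]; group
      _ = _ := by rw [e]; simp only [k]; group
  have h2 := mul_mem (mul_mem (show Φ c ∈ Φ.range from ⟨c, rfl⟩) (H.cent k hk))
    (inv_mem (show Φ c0 ∈ Φ.range from ⟨c0, rfl⟩))
  rwa [show Φ c * k * (Φ c0)⁻¹ = g by simp only [k]; group] at h2

end CfsgLib.ExtraThirtyTwo.Eight.Alt
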